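import Mathlib
import Cfsg.Prelude.Def_LieTypeDatum

/-!
# An isomorphism between two images with a common projective image (helper202)

* `iso_of_common` : `φ : A → P`, `ψ : B → P`, `θ : B → X` with `ker ψ = ker θ`, `C ≤ θ(B)`, `φ(A) ≤ ψ(B)`,
  `θ b ∈ C ↔ ψ b ∈ φ(A)`: then `C ≃* A ⧸ ker φ`.
* `toPGL`, `ker_toPGL`, `projQuotEquiv`.
-/

set_option autoImplicit false

namespace Cfsg.Agent.H202.Iso

open Cfsg
open scoped MatrixGroups

theorem iso_of_common {A B P X : Type*} [Group A] [Group B] [Group P] [Group X] (φ : A →* P) (ψ : B →* P)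
    (θ : B →* X) (hker : ψ.ker = θ.ker) (C : Subgroup X) (hC : C ≤ θ.range) (hφψ : φ.range ≤ ψ.range)
    (h : ∀ b, θ b ∈ C ↔ ψ b ∈ φ.range) : Nonempty (↥C ≃* A ⧸ φ.ker) := by
  let D : Subgroup B := C.comap θ
  let θ' : ↥D →* ↥C := (θ.comp D.subtype).codRestrict C (fun d => d.2)
  let ψ' : ↥D →* ↥φ.range := (ψ.comp D.subtype).codRestrict φ.range (fun d => (h _).1 d.2)
  have hθ' : Function.Surjective θ' := by
    rintro ⟨c, hc⟩
    obtain ⟨b, hb⟩ := hC hc
    exact ⟨⟨b, by change θ b ∈ C; rw [hb]; exact hc⟩, Subtype.ext hb⟩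
  have hψ' : Function.Surjective ψ' := by
    rintro ⟨c, hc⟩
    obtain ⟨b, hb⟩ := hφψ hc
    exact ⟨⟨b, (h b).2 (by rw [hb]; exact hc)⟩, Subtype.ext hb⟩
  have hk : θ'.ker = ψ'.ker := by
    ext d
    rw [MonoidHom.mem_ker, MonoidHom.mem_ker]
    have h1 : θ' d = 1 ↔ θ (d : B) = 1 := ⟨fun h => congrArg Subtype.val h, fun h => Subtype.ext h⟩
    have h2 : ψ' d = 1 ↔ ψ (d : B) = 1 := ⟨fun h => congrArg Subtype.val h, fun h => Subtype.ext h⟩
    rw [h1, h2, ← MonoidHom.mem_ker, ← MonoidHom.mem_ker, hker]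
  exact ⟨(QuotientGroup.quotientKerEquivOfSurjective θ' hθ').symm.trans
    ((QuotientGroup.quotientMulEquivOfEq hk).trans ((QuotientGroup.quotientKerEquivOfSurjective ψ' hψ').trans
      (QuotientGroup.quotientKerEquivRange φ).symm))⟩

section PGL

variable {ι : Type} [Fintype ι] [DecidableEq ι] {F : Type*} [Field F]

/-- The projection to `PGL`. -/
abbrev toPGL (ι : Type) [Fintype ι] [DecidableEq ι] (F : Type*) [Field F] : GL ι F →* GL ι F ⧸ Geo.scalars ι F :=
  QuotientGroup.mk' _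

theorem toPGL_eq_iff (A B : GL ι F) : toPGL ι F A = toPGL ι F B ↔
    ∃ c : Fˣ, (B : Matrix ι ι F) = (c : F) • (A : Matrix ι ι F) := by
  rw [QuotientGroup.mk'_apply, QuotientGroup.mk'_apply, QuotientGroup.eq, Geo.mem_scalars_iff]
  constructor
  · rintro ⟨c, hc⟩
    refine ⟨c, ?_⟩
    have h1 : (B : Matrix ι ι F) = (A : Matrix ι ι F) * ((A⁻¹ * B : GL ι F) : Matrix ι ι F) := by
      rw [← Units.val_mul, mul_inv_cancel_left]
    rw [h1, hc, Matrix.mul_smul, Matrix.mul_one]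
  · rintro ⟨c, hc⟩
    refine ⟨c, ?_⟩
    rw [Units.val_mul, hc, Matrix.mul_smul, ← Units.val_mul, inv_mul_cancel, Units.val_one]

/-- The kernel of a homomorphism from a subgroup of `GL ι F₀` to `PGL ι F`, given by `P ↦ M * j(P) * M⁻¹`. -/
theorem ker_conj_map {F₀ : Type*} [Field F₀] [Nonempty ι] (H : Subgroup (GL ι F₀)) (j : F₀ →+* F) (M : GL ι F) :
    ((toPGL ι F).comp ((MulAut.conj M).toMonoidHom.comp
      ((Matrix.GeneralLinearGroup.map j).comp H.subtype))).ker = (Geo.scalars ι F₀).subgroupOf H := by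
  ext g
  rw [MonoidHom.mem_ker, Subgroup.mem_subgroupOf, Geo.mem_scalars_iff]
  change (QuotientGroup.mk (M * Matrix.GeneralLinearGroup.map j (g : GL ι F₀) * M⁻¹) : GL ι F ⧸ Geo.scalars ι F) = 1 ↔ _
  rw [QuotientGroup.eq_one_iff]
  have h0 : M * Matrix.GeneralLinearGroup.map j (g : GL ι F₀) * M⁻¹ ∈ Geo.scalars ι F ↔
      Matrix.GeneralLinearGroup.map j (g : GL ι F₀) ∈ Geo.scalars ι F := by
    constructor
    · intro h
      have h1 := (Geo.scalars_normal (ι := ι) (F := F)).conj_mem _ h M⁻¹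
      have h2 : M⁻¹ * (M * Matrix.GeneralLinearGroup.map j (g : GL ι F₀) * M⁻¹) * M⁻¹⁻¹ =
          Matrix.GeneralLinearGroup.map j (g : GL ι F₀) := by group
      rwa [h2] at h1
    · intro h
      exact (Geo.scalars_normal (ι := ι) (F := F)).conj_mem _ h M
  rw [h0, Geo.mem_scalars_iff]
  have hmap : ((Matrix.GeneralLinearGroup.map j (g : GL ι F₀) : GL ι F) : Matrix ι ι F) =
      ((g : GL ι F₀) : Matrix ι ι F₀).map j := rfl
  rw [hmap]
  obtain ⟨i0⟩ : Nonempty ι := inferInstance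
  constructor
  · rintro ⟨a, ha⟩
    have h1 := fun i k => congrFun (congrFun ha i) k
    simp only [Matrix.map_apply, Matrix.smul_apply, smul_eq_mul] at h1
    have ha0 : j (((g : GL ι F₀) : Matrix ι ι F₀) i0 i0) = a := by
      rw [h1, Matrix.one_apply_eq, mul_one]
    have hne : ((g : GL ι F₀) : Matrix ι ι F₀) i0 i0 ≠ 0 := by
      intro h2
      rw [h2, map_zero] at ha0
      exact a.ne_zero ha0.symm
    refine ⟨Units.mk0 _ hne, ?_⟩
    ext i k
    apply j.injective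
    rw [h1, Matrix.smul_apply, smul_eq_mul, map_mul, Units.val_mk0, ha0]
    congr 1
    rw [Matrix.one_apply, Matrix.one_apply]
    split_ifs
    · exact (map_one j).symm
    · exact (map_zero j).symm
  · rintro ⟨c, hc⟩
    refine ⟨Units.map (j : F₀ →* F) c, ?_⟩
    rw [hc]
    ext i k
    rw [Matrix.map_apply, Matrix.smul_apply, Matrix.smul_apply, smul_eq_mul, smul_eq_mul, map_mul, Matrix.one_apply,
      Matrix.one_apply]
    split_ifs
    · rw [map_one]; rfl
    · rw [map_zero, mul_zero, mul_zero]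

end PGL

end Cfsg.Agent.H202.Iso
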