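import Mathlib
import Cfsg.Prelude.Def_LieTypeDatum
import Cfsg.Agent.Schreier.PSU
import Cfsg.Agent.CpAutU.Fixed
import Cfsg.Agent.H202.Split

/-!
# `PSU_n(q)`: the inner-diagonal group and the field automorphisms of `Def_LieTypeDatum` (helper202)

* `inndiag_iff`, `inndiag_eq` : `Inndiag(PSU) = f₁.range`, `f₁ A` = conjugation by `A ∈ GU`;
* `isFieldAut_iff` : the standard field automorphism of `σ` is `f₂ σ`;
* `inndiag_normal`, `inn_le`, `mem_inn_iff`, ...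
-/

set_option autoImplicit false
set_option linter.unusedSectionVars false

namespace Cfsg.Agent.H202.Psu

open Cfsg Matrix Cfsg.Agent.LieClassical.HermBasic Cfsg.Agent.LieClassical.HermSiegel
  Cfsg.Agent.ClassicalGeometry.PSUAutCount Cfsg.Agent.Schreier.PSU Cfsg.Agent.H202.Split
open Cfsg.Agent.ClassicalGeometry.UnitAutBasic (pr pr_surjective)

section Gen

variable {F : Type*} [Field F] {q n : ℕ}

theorem mat_semiConj_one (A : GU n F q) (g : SU n F q) : mat (semiConj A 1 g) = gm A * mat g * gm A⁻¹ := by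
  apply Matrix.ext_of_mulVec_single
  intro i
  rw [← act_def, act_semiConj_one', act_def, mulVec_mulVec, mulVec_mulVec, mul_assoc]

theorem mat_semiConj_field (ρ : F ≃+* F) (g : SU n F q) : mat (semiConj 1 ρ g) = (mat g).map ρ := by
  apply Matrix.ext_of_mulVec_single
  intro i
  rw [← act_def, act_semiConj_field']
  funext k
  rw [act_def]
  simp only [Matrix.mulVec, dotProduct, Matrix.map_apply, map_sum, map_mul]
  refine Finset.sum_congr rfl fun l _ => ?_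
  congr 1
  exact ρ.apply_symm_apply _

/-- The automorphism induced by an element of `GU`. -/
theorem inndiag_iff (β : MulAut (PSU n F q)) : IsInnerDiagonalAutPSU β ↔ ∃ A : GU n F q, β = f₁ A := by
  constructor
  · rintro ⟨g, hg, h⟩
    refine ⟨⟨g, hg⟩, ?_⟩
    ext x
    obtain ⟨s, rfl⟩ := pr_surjective x
    exact h s (semiConj ⟨g, hg⟩ 1 s) (mat_semiConj_one _ _)
  · rintro ⟨A, rfl⟩
    refine ⟨A, A.2, fun s s' hs => ?_⟩
    have h1 : s' = semiConj A 1 s := mat_injective (by rw [mat_semiConj_one]; exact hs)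
    rw [h1]
    rfl

theorem inndiag_eq : inndiagPSU n F q = (f₁ (F := F) (q := q) (n := n)).range := by
  apply le_antisymm
  · rw [inndiagPSU, autSubgroupOf, Subgroup.closure_le]
    intro β hβ
    obtain ⟨A, rfl⟩ := (inndiag_iff β).1 hβ
    exact ⟨A, rfl⟩
  · rintro _ ⟨A, rfl⟩
    exact Subgroup.subset_closure ((inndiag_iff _).2 ⟨A, rfl⟩)

/-- The standard field automorphisms. -/
theorem isFieldAut_iff (σ : F ≃+* F) (φ : MulAut (PSU n F q)) : IsFieldAutPSUOf σ φ ↔ φ = f₂ σ := by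
  constructor
  · intro h
    ext x
    obtain ⟨s, rfl⟩ := pr_surjective x
    exact h s (semiConj 1 σ s) (mat_semiConj_field _ _)
  · rintro rfl s s' hs
    have h1 : s' = semiConj 1 σ s := mat_injective (by rw [mat_semiConj_field]; exact hs)
    rw [h1]
    rfl

end Gen

variable {F : Type*} [Field F] [Fintype F] {q n : ℕ}

theorem f₂_comm (ρ σ : F ≃+* F) : ρ * σ = σ * ρ := by
  have hc : IsCyclic (F ≃+* F) := LieRecognition.FieldSemilinear.isCyclic_ringAut F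
  let _ : CommGroup (F ≃+* F) := IsCyclic.commGroup
  exact mul_comm ρ σ

/-- `Inndiag(PSU)` is normal in the automorphism group. -/
theorem inndiag_normal (hF : Fintype.card F = q ^ 2) (hn : 3 ≤ n) (h32 : ¬ (n = 3 ∧ q = 2)) :
    (inndiagPSU n F q).Normal := by
  rw [inndiag_eq]
  constructor
  rintro _ ⟨B, rfl⟩ α
  obtain ⟨A, ρ, rfl⟩ := ClassicalGeometry.PSUAutMain.exists_toAut hF hn h32 α
  refine ⟨A * mapGU ρ B * A⁻¹, ?_⟩
  rw [toAut_eq, map_mul, map_mul, map_inv, ← conj_field]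
  group

theorem inn_normal {G : Type*} [Group G] : (MulAut.conj : G →* MulAut G).range.Normal := by
  constructor
  rintro _ ⟨g, rfl⟩ α
  refine ⟨α g, ?_⟩
  ext x
  simp [MulAut.mul_apply, MulAut.conj_apply]

/-- A conjugate of a standard field automorphism is `toAut A σ`. -/
theorem exists_toAut_of_conj (hF : Fintype.card F = q ^ 2) (hn : 3 ≤ n) (h32 : ¬ (n = 3 ∧ q = 2))
    {x α : MulAut (PSU n F q)} {σ : F ≃+* F} (h : α * x * α⁻¹ = f₂ σ) : ∃ A : GU n F q, x = toAut A σ := by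
  obtain ⟨A, ρ, rfl⟩ := ClassicalGeometry.PSUAutMain.exists_toAut hF hn h32 α
  have h1 : x = (f₁ A * f₂ ρ)⁻¹ * f₂ σ * (f₁ A * f₂ ρ) := by
    rw [← toAut_eq, ← h]
    group
  -- `f₂ ρ⁻¹ (f₁ A)⁻¹ f₂ σ f₁ A f₂ ρ`
  have h2 : (f₁ A : MulAut (PSU n F q))⁻¹ * f₂ σ * f₁ A = f₁ (A⁻¹ * mapGU σ A) * f₂ σ := by
    rw [map_mul, ← conj_field, map_inv]
    group
  have h3 : x = (f₂ ρ)⁻¹ * f₁ (A⁻¹ * mapGU σ A) * f₂ ρ * ((f₂ ρ)⁻¹ * f₂ σ * f₂ ρ) := by
    rw [h1, _root_.mul_inv_rev]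
    calc (f₂ ρ)⁻¹ * (f₁ A)⁻¹ * f₂ σ * (f₁ A * f₂ ρ) = (f₂ ρ)⁻¹ * ((f₁ A)⁻¹ * f₂ σ * f₁ A) * f₂ ρ := by group
      _ = _ := by rw [h2]; group
  have h4 : (f₂ ρ : MulAut (PSU n F q))⁻¹ * f₂ σ * f₂ ρ = f₂ σ := by
    rw [← map_inv, ← map_mul, ← map_mul, f₂_comm ρ⁻¹ σ, mul_assoc, inv_mul_cancel, mul_one]
  have h5 : (f₂ ρ)⁻¹ * f₁ (A⁻¹ * mapGU σ A) * f₂ ρ = f₁ (mapGU ρ⁻¹ (A⁻¹ * mapGU σ A)) := by
    rw [← conj_field, map_inv, inv_inv]
  rw [h4, h5, ← toAut_eq] at h3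
  exact ⟨_, h3⟩

/-- **Automorphisms of odd prime order with a nontrivial field part.** -/
theorem exists_conj_field (hF : Fintype.card F = q ^ 2) (hn : 3 ≤ n) {σ : F ≃+* F} (hσ : σ ≠ 1)
    (hodd : Odd (orderOf σ)) {r : ℕ} (hr : r.Prime) {A : GU n F q} (h : orderOf (toAut A σ) = r) :
    orderOf σ = r ∧ IsConjUnder (inndiagPSU n F q) (f₂ σ) (toAut A σ) := by
  have h1 : toAut A σ ^ r = 1 := by rw [← h]; exact pow_orderOf_eq_one _
  obtain ⟨h2, -⟩ := CpAutU.Desc.exists_scalar hF hn h1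
  have h3 : orderOf σ = r := by
    have : Fact r.Prime := ⟨hr⟩
    exact orderOf_eq_prime h2 hσ
  have hr2 : r ≠ 2 := by
    rintro rfl
    rw [h3] at hodd
    exact absurd hodd (by decide)
  obtain ⟨-, M, hM⟩ := CpAutU.Desc.exists_conj hF hn hr hr2 h1 hσ
  refine ⟨h3, f₁ M, ?_, hM⟩
  rw [inndiag_eq]
  exact ⟨M, rfl⟩

end Cfsg.Agent.H202.Psu
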