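import Mathlib
import Cfsg.Agent.H202.Psu
import Cfsg.Agent.H202.Iso
import Cfsg.Agent.H202.Descent

/-!
# `PSU_n(q)`: centralizers in `Inndiag` through `PGL_n(F)` (helper202)

* `mem_GU_mat` : `A ∈ GU n F q ↔ Aᵀ * A.map τ = 1`, `τ` the `q`-th power map;
* `ker_f₁` : the kernel of `f₁ : GU → MulAut PSU` is the kernel of `GU → PGL_n(F)`;
* `f₁_eq_iff`, `f₁_mem_cent_field` ;
* `cent_equiv` : `C_{Inndiag}(f₂ σ) ≃* PGU n F₀ q₀`.
-/

set_option autoImplicit false
set_option linter.unusedSectionVars false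
set_option linter.style.haveILetI false

namespace Cfsg.Agent.H202.PsuCent

open Cfsg Matrix Cfsg.Agent.LieClassical.HermBasic Cfsg.Agent.LieClassical.HermSiegel
  Cfsg.Agent.ClassicalGeometry.PSUAutCount Cfsg.Agent.Schreier.PSU Cfsg.Agent.H202.Split Cfsg.Agent.H202.Psu
  Cfsg.Agent.H202.Iso
open Cfsg.Agent.ClassicalGeometry.UnitAutBasic (pr pr_surjective)

section Mat

variable {F : Type*} [Field F] {q n : ℕ}

/-- The form in terms of matrices. -/
theorem herm_mulVec {τ : F ≃+* F} (hτ : ∀ x, τ x = x ^ q) (M : Matrix (Fin n) (Fin n) F) (u v : Fin n → F) :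
    hermForm n F q (M *ᵥ u) (M *ᵥ v) = u ⬝ᵥ ((Mᵀ * M.map τ) *ᵥ (fun i => τ (v i))) := by
  have h1 : ∀ x y : Fin n → F, hermForm n F q x y = x ⬝ᵥ (fun i => τ (y i)) := by
    intro x y
    rw [herm_def]
    exact Finset.sum_congr rfl fun i _ => by simp only [hτ]
  rw [h1, Descent.map_mulVec, ← Matrix.mulVec_mulVec, Matrix.dotProduct_mulVec u, Matrix.vecMul_transpose]

theorem herm_eq {τ : F ≃+* F} (hτ : ∀ x, τ x = x ^ q) (u v : Fin n → F) :
    hermForm n F q u v = u ⬝ᵥ (fun i => τ (v i)) := by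
  rw [herm_def]
  exact Finset.sum_congr rfl fun i _ => by simp only [hτ]

theorem matrix_eq_of_dot {τ : F ≃+* F} {S T : Matrix (Fin n) (Fin n) F}
    (h : ∀ u v : Fin n → F, u ⬝ᵥ (S *ᵥ (fun i => τ (v i))) = u ⬝ᵥ (T *ᵥ (fun i => τ (v i)))) : S = T := by
  ext i k
  have h1 := h (Pi.single i 1) (Pi.single k 1)
  have h2 : (fun l => τ ((Pi.single k 1 : Fin n → F) l)) = Pi.single k 1 := by
    funext l
    by_cases hl : l = k
    · subst hl; simp
    · simp [Pi.single_eq_of_ne hl]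
  rw [h2] at h1
  simpa using h1

/-- Unitary matrices. -/
theorem mem_GU_mat {τ : F ≃+* F} (hτ : ∀ x, τ x = x ^ q) (A : GL (Fin n) F) :
    A ∈ GU n F q ↔ (A : Matrix (Fin n) (Fin n) F)ᵀ * (A : Matrix (Fin n) (Fin n) F).map τ = 1 := by
  constructor
  · intro h
    apply matrix_eq_of_dot (τ := τ)
    intro u v
    rw [← herm_mulVec hτ, one_mulVec]
    exact (h u v).trans (herm_eq hτ u v)
  · intro h u v
    change hermForm n F q ((A : Matrix (Fin n) (Fin n) F) *ᵥ u) ((A : Matrix (Fin n) (Fin n) F) *ᵥ v) = _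
    rw [herm_mulVec hτ, h, one_mulVec, herm_eq hτ]

end Mat

variable {F : Type*} [Field F] [Fintype F] {q n : ℕ}

theorem f₁_eq_iff (hF : Fintype.card F = q ^ 2) (hn : 3 ≤ n) (A B : GU n F q) :
    (f₁ A : MulAut (PSU n F q)) = f₁ B ↔ ∃ c : F, gm B = c • gm A := by
  constructor
  · intro h
    obtain ⟨-, c, -, hc⟩ := eq_of_toAut_eq hF hn (A := A) (A' := B) (ρ := 1) (ρ' := 1) h
    exact ⟨c, hc⟩
  · rintro ⟨c, hc⟩
    have h1 := herm_gm B (Pi.single ⟨0, by omega⟩ 1) (Pi.single ⟨0, by omega⟩ 1)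
    rw [hc, smul_mulVec, herm_smul_left, herm_smul_right, herm_gm, herm_single_left,
      Pi.single_eq_same, one_pow] at h1
    have h2 : c * c ^ q = 1 := by linear_combination h1
    have h3 : B = sc n ⟨c, h2⟩ * A := gm_inj (by rw [gm_sc_mul, hc])
    rw [h3]
    exact (toAut_sc_mul ⟨c, h2⟩ A 1).symm

/-- The map to `PGL`. -/
def toP (n : ℕ) (F : Type*) [Field F] (q : ℕ) : GU n F q →* GL (Fin n) F ⧸ Geo.scalars (Fin n) F :=
  (toPGL (Fin n) F).comp (GU n F q).subtype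

theorem toP_apply (A : GU n F q) : toP n F q A = toPGL (Fin n) F (A : GL (Fin n) F) := rfl

theorem toP_eq_iff (hn : 3 ≤ n) (A B : GU n F q) : toP n F q A = toP n F q B ↔ ∃ c : F, gm B = c • gm A := by
  rw [toP_apply, toP_apply, toPGL_eq_iff]
  constructor
  · rintro ⟨c, hc⟩
    exact ⟨c, hc⟩
  · rintro ⟨c, hc⟩
    have hc0 : c ≠ 0 := by
      rintro rfl
      rw [zero_smul] at hc
      have h1 := gm_mul_inv B
      rw [hc, zero_mul] at h1
      have h3 := congrFun (congrFun h1 ⟨0, by omega⟩) ⟨0, by omega⟩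
      rw [Matrix.zero_apply, Matrix.one_apply_eq] at h3
      exact zero_ne_one h3
    exact ⟨Units.mk0 c hc0, hc⟩

theorem f₁_eq_iff_toP (hF : Fintype.card F = q ^ 2) (hn : 3 ≤ n) (A B : GU n F q) :
    (f₁ A : MulAut (PSU n F q)) = f₁ B ↔ toP n F q A = toP n F q B := by
  rw [f₁_eq_iff hF hn, toP_eq_iff hn]

theorem ker_f₁ (hF : Fintype.card F = q ^ 2) (hn : 3 ≤ n) :
    (toP n F q).ker = (f₁ : GU n F q →* MulAut (PSU n F q)).ker := by
  ext A
  rw [MonoidHom.mem_ker, MonoidHom.mem_ker, ← map_one (toP n F q), ← map_one (f₁ (F := F) (q := q) (n := n)),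
    f₁_eq_iff_toP hF hn]

/-- Elements of `Inndiag` centralizing `f₁ A * f₂ ρ`. -/
theorem f₁_comm_iff (hF : Fintype.card F = q ^ 2) (hn : 3 ≤ n) (A B : GU n F q) (ρ : F ≃+* F) :
    (f₁ B : MulAut (PSU n F q)) ∈ inndiagPSU n F q ⊓ Subgroup.centralizer {(f₁ A * f₂ ρ : MulAut (PSU n F q))} ↔
      ∃ c : F, gm B * gm A = c • (gm A * (gm B).map ρ) := by
  rw [Subgroup.mem_inf, Subgroup.mem_centralizer_singleton_iff, inndiag_eq]
  have h1 : (f₁ B : MulAut (PSU n F q)) * (f₁ A * f₂ ρ) = f₁ A * f₂ ρ * f₁ B ↔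
      (f₁ (A * mapGU ρ B) : MulAut (PSU n F q)) = f₁ (B * A) := by
    have h2 : (f₁ A * f₂ ρ * f₁ B : MulAut (PSU n F q)) = f₁ (A * mapGU ρ B) * f₂ ρ := by
      rw [map_mul, ← conj_field]; group
    rw [h2, ← mul_assoc, ← map_mul, mul_right_cancel_iff, eq_comm]
  rw [h1, f₁_eq_iff hF hn]
  constructor
  · rintro ⟨-, c, hc⟩
    exact ⟨c, by rw [← gm_mul, hc, gm_mul]; rfl⟩
  · rintro ⟨c, hc⟩
    exact ⟨⟨B, rfl⟩, c, by rw [gm_mul, gm_mul, hc]; rfl⟩

variable {F₀ : Type*} [Field F₀] [Fintype F₀]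

/-- Unitary matrices over the small field. -/
theorem mem_GU_map_iff {q₀ : ℕ} (hF : Fintype.card F = q ^ 2) (hF₀ : Fintype.card F₀ = q₀ ^ 2)
    {j : F₀ →+* F} (hq : ∀ a, j a ^ q = j (a ^ q₀)) (g : GL (Fin n) F₀) :
    g ∈ GU n F₀ q₀ ↔ Matrix.GeneralLinearGroup.map j g ∈ GU n F q := by
  have hτ : ∀ x, conj hF x = x ^ q := conj_apply hF
  have hτ₀ : ∀ x, conj hF₀ x = x ^ q₀ := conj_apply hF₀
  have hjτ : ∀ x, conj hF (j x) = j (conj hF₀ x) := fun x => by rw [hτ, hτ₀, hq]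
  have hmm : ∀ M : Matrix (Fin n) (Fin n) F₀, (M.map j).map (conj hF) = (M.map (conj hF₀)).map j := by
    intro M
    ext i k
    exact hjτ _
  rw [mem_GU_mat hτ, mem_GU_mat hτ₀]
  change _ ↔ ((g : Matrix (Fin n) (Fin n) F₀).map j)ᵀ * ((g : Matrix (Fin n) (Fin n) F₀).map j).map (conj hF) = 1
  rw [hmm, ← Matrix.transpose_map, ← Matrix.map_mul, ← Matrix.map_one j (map_zero j) (map_one j)]
  exact ⟨fun h => by rw [h], fun h => Descent.map_injective j h⟩

/-- Unitary matrices fixed up to scalars by `σ`. -/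
theorem fixed_iff {q₀ : ℕ} (hF : Fintype.card F = q ^ 2) (hF₀ : Fintype.card F₀ = q₀ ^ 2) (hn : 3 ≤ n)
    {σ : F ≃+* F} {j : F₀ →+* F} (hj : ∀ a, σ a = a ↔ ∃ b, j b = a) (hq : ∀ a, j a ^ q = j (a ^ q₀)) (B : GU n F q) :
    (∃ c : F, gm B = c • (gm B).map σ) ↔ ∃ (Q : GU n F₀ q₀) (c : Fˣ), gm B = (c : F) • (gm Q).map j := by
  haveI : Nonempty (Fin n) := ⟨⟨0, by omega⟩⟩
  have hτ : ∀ x, conj hF x = x ^ q := conj_apply hF
  have hτ₀ : ∀ x, conj hF₀ x = x ^ q₀ := conj_apply hF₀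
  have hjτ : ∀ x, conj hF (j x) = j (conj hF₀ x) := fun x => by rw [hτ, hτ₀, hq]
  have hmm : ∀ M : Matrix (Fin n) (Fin n) F₀, (M.map j).map (conj hF) = (M.map (conj hF₀)).map j := by
    intro M
    ext i k
    exact hjτ _
  constructor
  · rintro ⟨c, hc⟩
    have hc0 : c ≠ 0 := by
      rintro rfl
      rw [zero_smul] at hc
      have h1 := gm_mul_inv B
      rw [hc, zero_mul] at h1
      have h3 := congrFun (congrFun h1 ⟨0, by omega⟩) ⟨0, by omega⟩
      rw [Matrix.zero_apply, Matrix.one_apply_eq] at h3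
      exact zero_ne_one h3
    have hc' : ((B : GL (Fin n) F) : Matrix (Fin n) (Fin n) F).map σ =
        c⁻¹ • ((B : GL (Fin n) F) : Matrix (Fin n) (Fin n) F) := by
      rw [eq_inv_smul_iff₀ hc0]
      exact hc.symm
    obtain ⟨e, he⟩ := Descent.exists_fixed_multiple hc'
    obtain ⟨P, hP⟩ := Descent.exists_descend_gl hj he
    have hPm : (P : Matrix (Fin n) (Fin n) F₀).map j = (e : F) • gm B := by
      have := congrArg Units.val hP
      rw [Descent.coe_scg_mul] at this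
      exact this
    -- the Gram matrix
    have hB := (mem_GU_mat hτ (B : GL (Fin n) F)).1 B.2
    have hG : ((P : Matrix (Fin n) (Fin n) F₀)ᵀ * (P : Matrix (Fin n) (Fin n) F₀).map (conj hF₀)).map j =
        ((e : F) * (e : F) ^ q) • (1 : Matrix (Fin n) (Fin n) F) := by
      rw [Matrix.map_mul, ← hmm, Matrix.transpose_map, hPm]
      have h5 : ((e : F) • gm B).map (conj hF) = ((e : F) ^ q) • (gm B).map (conj hF) := by
        ext i k
        rw [Matrix.map_apply, Matrix.smul_apply, Matrix.smul_apply, smul_eq_mul, smul_eq_mul, map_mul, hτ,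
          Matrix.map_apply]
      rw [h5, Matrix.transpose_smul, smul_mul_smul_comm]
      congr 1
    obtain ⟨i0⟩ : Nonempty (Fin n) := inferInstance
    obtain ⟨N, hN⟩ : ∃ N : Matrix (Fin n) (Fin n) F₀,
        N = (P : Matrix (Fin n) (Fin n) F₀)ᵀ * (P : Matrix (Fin n) (Fin n) F₀).map (conj hF₀) := ⟨_, rfl⟩
    rw [← hN] at hG
    have hν : j (N i0 i0) = (e : F) * (e : F) ^ q := by
      have := congrFun (congrFun hG i0) i0
      rwa [Matrix.map_apply, Matrix.smul_apply, Matrix.one_apply_eq, smul_eq_mul, mul_one] at this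
    have hνq : (N i0 i0) ^ q₀ = N i0 i0 := by
      apply j.injective
      rw [← hq, hν, norm_pow_q hF]
    have hν0 : N i0 i0 ≠ 0 := by
      intro h
      rw [h, map_zero] at hν
      exact e.ne_zero ((norm_eq_zero hF).1 hν.symm)
    obtain ⟨d, hd0, hd⟩ : ∃ d : F₀, d ≠ 0 ∧ d * d ^ q₀ = N i0 i0 := by
      obtain ⟨d, hd⟩ := exists_norm_eq hF₀ hνq
      refine ⟨d, ?_, hd⟩
      rintro rfl
      rw [zero_mul] at hd
      exact hν0 hd.symm
    have hNN : N = (d * d ^ q₀) • (1 : Matrix (Fin n) (Fin n) F₀) := by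
      apply Descent.map_injective j
      change N.map j = ((d * d ^ q₀) • (1 : Matrix (Fin n) (Fin n) F₀)).map j
      rw [hG, hd]
      ext i k
      rw [Matrix.map_apply, Matrix.smul_apply, Matrix.smul_apply, smul_eq_mul, smul_eq_mul, map_mul, hν,
        Matrix.one_apply, Matrix.one_apply]
      split_ifs
      · rw [map_one]
      · rw [map_zero]
    -- rescale
    have hQ : Descent.scg (Units.mk0 d hd0)⁻¹ * P ∈ GU n F₀ q₀ := by
      rw [mem_GU_mat hτ₀, Descent.coe_scg_mul]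
      have h5 : ((((Units.mk0 d hd0)⁻¹ : F₀ˣ) : F₀) • (P : Matrix (Fin n) (Fin n) F₀)).map (conj hF₀) =
          ((((Units.mk0 d hd0)⁻¹ : F₀ˣ) : F₀) ^ q₀) • (P : Matrix (Fin n) (Fin n) F₀).map (conj hF₀) := by
        ext i k
        rw [Matrix.map_apply, Matrix.smul_apply, Matrix.smul_apply, smul_eq_mul, smul_eq_mul, map_mul, hτ₀,
          Matrix.map_apply]
      rw [h5, Matrix.transpose_smul, smul_mul_smul_comm, ← hN, hNN, smul_smul, Units.val_inv_eq_inv_val,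
        Units.val_mk0, inv_pow, ← mul_inv, inv_mul_cancel₀ (by rw [hd]; exact hν0), one_smul]
    have hjd : j d ≠ 0 := fun h => hd0 (j.injective (h.trans (map_zero j).symm))
    refine ⟨⟨_, hQ⟩, e⁻¹ * Units.mk0 (j d) hjd, ?_⟩
    have h6 : (gm (⟨_, hQ⟩ : GU n F₀ q₀)).map j = (j d)⁻¹ • ((e : F) • gm B) := by
      rw [← hPm]
      ext i k
      change j (((Descent.scg (Units.mk0 d hd0)⁻¹ * P : GL (Fin n) F₀) : Matrix (Fin n) (Fin n) F₀) i k) = _
      rw [Descent.coe_scg_mul, Matrix.smul_apply, Matrix.smul_apply, smul_eq_mul, smul_eq_mul, map_mul,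
        Matrix.map_apply, Units.val_inv_eq_inv_val, Units.val_mk0, map_inv₀]
    rw [h6, smul_smul, smul_smul]
    have h7 : ((e⁻¹ * Units.mk0 (j d) hjd : Fˣ) : F) * (j d)⁻¹ * (e : F) = 1 := by
      rw [Units.val_mul, Units.val_inv_eq_inv_val, Units.val_mk0]
      have := e.ne_zero
      field_simp
    rw [h7, one_smul]
  · rintro ⟨P, c, hc⟩
    refine ⟨(c : F) * (σ (c : F))⁻¹, ?_⟩
    have hcσ : σ (c : F) ≠ 0 := by
      rw [Ne, map_eq_zero]
      exact c.ne_zero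
    have h9 : ∀ i k, gm B i k = (c : F) * j (gm P i k) := fun i k => congrFun (congrFun hc i) k
    have h8 : ∀ i k, σ (j (gm P i k)) = j (gm P i k) := fun i k => (hj _).2 ⟨_, rfl⟩
    ext i k
    rw [Matrix.smul_apply, Matrix.map_apply, smul_eq_mul, h9, map_mul, h8]
    field_simp

/-- **The centralizer of a field automorphism of odd order.** `j : F₀ → F` has image the fixed field of `σ`,
`|F| = q²`, `|F₀| = q₀²`, and the two conjugations agree. -/
theorem cent_equiv {q₀ : ℕ} (hF : Fintype.card F = q ^ 2) (hF₀ : Fintype.card F₀ = q₀ ^ 2) (hn : 3 ≤ n)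
    {σ : F ≃+* F} {j : F₀ →+* F} (hj : ∀ a, σ a = a ↔ ∃ b, j b = a) (hq : ∀ a, j a ^ q = j (a ^ q₀)) :
    Nonempty (↥(inndiagPSU n F q ⊓ Subgroup.centralizer {(f₂ σ : MulAut (PSU n F q))}) ≃* PGU n F₀ q₀) := by
  haveI : Nonempty (Fin n) := ⟨⟨0, by omega⟩⟩
  let φ : GU n F₀ q₀ →* GL (Fin n) F ⧸ Geo.scalars (Fin n) F :=
    (toPGL (Fin n) F).comp ((MulAut.conj (1 : GL (Fin n) F)).toMonoidHom.comp
      ((Matrix.GeneralLinearGroup.map j).comp (GU n F₀ q₀).subtype))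
  have hφ : ∀ g : GU n F₀ q₀, φ g = toPGL (Fin n) F (Matrix.GeneralLinearGroup.map j (g : GL (Fin n) F₀)) := by
    intro g
    change toPGL (Fin n) F (1 * Matrix.GeneralLinearGroup.map j (g : GL (Fin n) F₀) * 1⁻¹) = _
    rw [inv_one, mul_one, one_mul]
  have hkφ : φ.ker = (Geo.scalars (Fin n) F₀).subgroupOf (GU n F₀ q₀) := ker_conj_map _ j 1
  have key := iso_of_common φ (toP n F q) f₁ (ker_f₁ hF hn)
    (inndiagPSU n F q ⊓ Subgroup.centralizer {(f₂ σ : MulAut (PSU n F q))}) (by rw [← inndiag_eq]; exact inf_le_left)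
    (by
      rintro _ ⟨g, rfl⟩
      rw [hφ]
      exact ⟨⟨_, (mem_GU_map_iff hF hF₀ hq _).1 g.2⟩, rfl⟩)
    (by
      intro B
      have h0 := f₁_comm_iff hF hn (1 : GU n F q) B σ
      rw [map_one, one_mul] at h0
      rw [h0, gm_one, mul_one, one_mul, fixed_iff hF hF₀ hn hj hq]
      constructor
      · rintro ⟨Q, c, hc⟩
        refine ⟨Q, ?_⟩
        rw [hφ, toP_apply, toPGL_eq_iff]
        exact ⟨c, hc⟩
      · rintro ⟨Q, hQ⟩
        rw [hφ, toP_apply, toPGL_eq_iff] at hQ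
        obtain ⟨c, hc⟩ := hQ
        exact ⟨Q, c, hc⟩)
  obtain ⟨e⟩ := key
  exact ⟨e.trans (QuotientGroup.quotientMulEquivOfEq hkφ)⟩

end Cfsg.Agent.H202.PsuCent
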