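import Mathlib
import Cfsg.Prelude.Def_LieTypeDatum
import Cfsg.Agent.H202.Descent
import Cfsg.Agent.H202.Split
import Cfsg.Agent.H966.PSpAut
import Cfsg.Agent.Lib.FieldAutCard

/-!
# Centralizer in `Inndiag(PSp_{2m}(F))` of a field automorphism of prime order (helper202)

* `Th j : GSp m F₀ →* MulAut (PSp m F)`, `ker_Th`, `range_Th` : the centralizer of `Psi (frobPerm σ)` in `inndiagPSp m F` is
  the image of `GSp m F₀`, `F₀` the fixed field; `cent_equiv`.
* `mem_inn_iff` : the automorphism induced by a similitude is inner iff the multiplier is a square.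
* `splitCount` : the number of classes.
-/

set_option autoImplicit false
set_option linter.unusedSectionVars false
set_option linter.style.haveILetI false

namespace Cfsg.Agent.H202.PspCent

open Cfsg
open scoped Matrix
open Cfsg.Agent.ClassicalGeometry.SympBasic Cfsg.Agent.ClassicalGeometry.SympAutSemi
  Cfsg.Agent.ClassicalGeometry.SympGamma Cfsg.Agent.H966.PSpAut Cfsg.Agent.H202.Descent Cfsg.Agent.H202.Split

universe u v

variable {F : Type u} [Field F] {F₀ : Type v} [Field F₀] {m : ℕ}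

/-- The element of `semiSim` given by a similitude matrix. -/
def sim (g : GSp m F) : semiSim m F :=
  ⟨permOf (g : GL (Fin m ⊕ Fin m) F) (RingEquiv.refl F), by
    obtain ⟨c, hc, h⟩ := isSemi_of_mem_GSp g.2
    exact ⟨_, c, hc, h⟩⟩

theorem coe_sim (g : GSp m F) :
    (sim g : Equiv.Perm (Fin m ⊕ Fin m → F)) = permOf (g : GL (Fin m ⊕ Fin m) F) (RingEquiv.refl F) := rfl

theorem sim_apply (g : GSp m F) (v : Fin m ⊕ Fin m → F) :
    (sim g : Equiv.Perm (Fin m ⊕ Fin m → F)) v = ((g : GL (Fin m ⊕ Fin m) F) : Matrix (Fin m ⊕ Fin m) (Fin m ⊕ Fin m) F) *ᵥ v := rfl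

/-- `sim` as a homomorphism. -/
def simHom (m : ℕ) (F : Type u) [Field F] : GSp m F →* semiSim m F where
  toFun := sim
  map_one' := by
    apply Subtype.ext
    ext1 v
    rw [sim_apply]
    exact Matrix.one_mulVec v
  map_mul' g h := by
    apply Subtype.ext
    ext1 v
    change _ = (sim g : Equiv.Perm _) ((sim h : Equiv.Perm _) v)
    rw [sim_apply, sim_apply, sim_apply, Matrix.mulVec_mulVec]
    rfl

theorem sim_mem_lin (g : GSp m F) : simHom m F g ∈ lin m F := by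
  obtain ⟨c, hc, h⟩ := isSemi_of_mem_GSp g.2
  exact ⟨c, hc, h⟩

theorem exists_sim_of_lin {h : semiSim m F} (hh : h ∈ lin m F) : ∃ g : GSp m F, simHom m F g = h := by
  obtain ⟨e, he, hs⟩ := hh
  obtain ⟨g, hg, hgh⟩ := exists_mem_GSp he hs
  exact ⟨⟨g, hg⟩, Subtype.ext hgh⟩

/-- The form and an embedding of fields. -/
theorem sympForm_map (j : F₀ →+* F) (u v : Fin m ⊕ Fin m → F₀) :
    sympForm m F (fun i => j (u i)) (fun i => j (v i)) = j (sympForm m F₀ u v) := by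
  rw [sympForm_eq_sum, sympForm_eq_sum, map_sum]
  refine Finset.sum_congr rfl fun i _ => ?_
  simp

theorem map_mulVec_hom (j : F₀ →+* F) (M : Matrix (Fin m ⊕ Fin m) (Fin m ⊕ Fin m) F₀) (v : Fin m ⊕ Fin m → F₀) :
    (M.map j) *ᵥ (fun i => j (v i)) = fun i => j ((M *ᵥ v) i) := by
  funext i
  simp [Matrix.mulVec, dotProduct, map_sum]

/-- A matrix multiplies the form by `c` iff it does so on the standard basis vectors. -/
theorem sim_iff_single {M : Matrix (Fin m ⊕ Fin m) (Fin m ⊕ Fin m) F} {c : F} :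
    (∀ u v, sympForm m F (M *ᵥ u) (M *ᵥ v) = c * sympForm m F u v) ↔
      ∀ i k, sympForm m F (M *ᵥ Pi.single i 1) (M *ᵥ Pi.single k 1) =
        c * sympForm m F (Pi.single i 1) (Pi.single k 1) := by
  constructor
  · intro h i k
    exact h _ _
  · intro h
    have hB : (sympBilin m F).compl₁₂ M.mulVecLin M.mulVecLin = c • sympBilin m F := by
      apply LinearMap.ext_basis (Pi.basisFun F (Fin m ⊕ Fin m)) (Pi.basisFun F (Fin m ⊕ Fin m))
      intro i k
      rw [LinearMap.compl₁₂_apply, Pi.basisFun_apply, Pi.basisFun_apply, Matrix.mulVecLin_apply,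
        Matrix.mulVecLin_apply]
      exact h i k
    intro u v
    exact LinearMap.congr_fun₂ hB u v

theorem single_map (j : F₀ →+* F) (i : Fin m ⊕ Fin m) :
    (fun k => j ((Pi.single i 1 : Fin m ⊕ Fin m → F₀) k)) = (Pi.single i 1 : Fin m ⊕ Fin m → F) := by
  funext k
  by_cases hk : k = i
  · subst hk
    simp
  · simp [Pi.single_eq_of_ne hk]

/-- Similitudes over `F₀` and over `F`. -/
theorem map_mem_iff (hm : 1 ≤ m) (j : F₀ →+* F) (g : GL (Fin m ⊕ Fin m) F₀) :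
    Matrix.GeneralLinearGroup.map j g ∈ GSp m F ↔ g ∈ GSp m F₀ := by
  have hval : ∀ i k, sympForm m F (((Matrix.GeneralLinearGroup.map j g : GL (Fin m ⊕ Fin m) F) : Matrix (Fin m ⊕ Fin m) (Fin m ⊕ Fin m) F) *ᵥ
      Pi.single i 1) (((Matrix.GeneralLinearGroup.map j g : GL (Fin m ⊕ Fin m) F) : Matrix (Fin m ⊕ Fin m) (Fin m ⊕ Fin m) F) *ᵥ Pi.single k 1) =
      j (sympForm m F₀ ((g : Matrix (Fin m ⊕ Fin m) (Fin m ⊕ Fin m) F₀) *ᵥ Pi.single i 1) ((g : Matrix (Fin m ⊕ Fin m) (Fin m ⊕ Fin m) F₀) *ᵥ Pi.single k 1)) := by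
    intro i k
    rw [← single_map j i, ← single_map j k]
    change sympForm m F (((g : Matrix (Fin m ⊕ Fin m) (Fin m ⊕ Fin m) F₀).map j) *ᵥ _) (((g : Matrix (Fin m ⊕ Fin m) (Fin m ⊕ Fin m) F₀).map j) *ᵥ _) = _
    rw [map_mulVec_hom, map_mulVec_hom, sympForm_map]
  have hstd : ∀ i k, sympForm m F (Pi.single i 1) (Pi.single k 1) =
      j (sympForm m F₀ (Pi.single i 1) (Pi.single k 1)) := by
    intro i k
    rw [← sympForm_map, single_map, single_map]
  constructor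
  · rintro ⟨c, hc⟩
    have hc' := sim_iff_single.1 hc
    let i0 : Fin m := ⟨0, hm⟩
    obtain ⟨d, hd⟩ : ∃ d : F₀, j d = (c : F) := by
      refine ⟨sympForm m F₀ ((g : Matrix (Fin m ⊕ Fin m) (Fin m ⊕ Fin m) F₀) *ᵥ Pi.single (Sum.inr i0) 1)
        ((g : Matrix (Fin m ⊕ Fin m) (Fin m ⊕ Fin m) F₀) *ᵥ Pi.single (Sum.inl i0) 1), ?_⟩
      rw [← hval, hc', sympForm_single_inr_left, Pi.single_eq_same, mul_one]
    have hd0 : d ≠ 0 := by
      rintro rfl
      rw [map_zero] at hd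
      exact c.ne_zero hd.symm
    refine ⟨Units.mk0 d hd0, sim_iff_single.2 fun i k => ?_⟩
    apply j.injective
    rw [← hval, hc', hstd, map_mul, Units.val_mk0, hd]
  · rintro ⟨c, hc⟩
    refine ⟨Units.map (j : F₀ →* F) c, sim_iff_single.2 fun i k => ?_⟩
    rw [hval, hc, hstd, map_mul]
    rfl

/-- `GSp(F₀) → GSp(F)` -/
def mapSim (hm : 1 ≤ m) (j : F₀ →+* F) : GSp m F₀ →* GSp m F where
  toFun g := ⟨Matrix.GeneralLinearGroup.map j (g : GL (Fin m ⊕ Fin m) F₀), (map_mem_iff hm j _).2 g.2⟩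
  map_one' := Subtype.ext (map_one _)
  map_mul' _ _ := Subtype.ext (map_mul _ _ _)

theorem coe_mapSim (hm : 1 ≤ m) (j : F₀ →+* F) (g : GSp m F₀) :
    ((mapSim hm j g : GL (Fin m ⊕ Fin m) F) : Matrix (Fin m ⊕ Fin m) (Fin m ⊕ Fin m) F) =
      ((g : GL (Fin m ⊕ Fin m) F₀) : Matrix (Fin m ⊕ Fin m) (Fin m ⊕ Fin m) F₀).map j := rfl

/-- The homomorphism to the automorphism group. -/
noncomputable def Th (hm : 1 ≤ m) (j : F₀ →+* F) : GSp m F₀ →* MulAut (PSp m F) :=
  (Psi m F).comp ((simHom m F).comp (mapSim hm j))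

theorem Th_apply (hm : 1 ≤ m) (j : F₀ →+* F) (g : GSp m F₀) : Th hm j g = Psi m F (simHom m F (mapSim hm j g)) := rfl

theorem ker_Th (hm : 1 ≤ m) (j : F₀ →+* F) :
    (Th hm j).ker = (Geo.scalars (Fin m ⊕ Fin m) F₀).subgroupOf (GSp m F₀) := by
  ext g
  rw [MonoidHom.mem_ker, Subgroup.mem_subgroupOf, Geo.mem_scalars_iff, Th_apply]
  have h0 : ∀ (a : Fˣ), (simHom m F (mapSim hm j g) : Equiv.Perm (Fin m ⊕ Fin m → F)) = scal m F a ↔
      ((g : GL (Fin m ⊕ Fin m) F₀) : Matrix (Fin m ⊕ Fin m) (Fin m ⊕ Fin m) F₀).map j =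
        (a : F) • (1 : Matrix (Fin m ⊕ Fin m) (Fin m ⊕ Fin m) F) := by
    intro a
    constructor
    · intro h
      rw [← Matrix.mulVec_injective.eq_iff]
      funext v
      rw [Matrix.smul_mulVec, Matrix.one_mulVec]
      exact DFunLike.congr_fun h v
    · intro h
      ext1 v
      change ((mapSim hm j g : GL (Fin m ⊕ Fin m) F) : Matrix (Fin m ⊕ Fin m) (Fin m ⊕ Fin m) F) *ᵥ v = _
      rw [coe_mapSim, h, Matrix.smul_mulVec, Matrix.one_mulVec]
      rfl
  constructor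
  · intro h
    obtain ⟨a, ha⟩ := exists_scal_of_Psi_eq_one hm _ h
    rw [h0] at ha
    let i0 : Fin m ⊕ Fin m := Sum.inl ⟨0, hm⟩
    have h1 := fun i k => congrFun (congrFun ha i) k
    simp only [Matrix.map_apply, Matrix.smul_apply, smul_eq_mul] at h1
    have ha0 : j ((((g : GL (Fin m ⊕ Fin m) F₀) : Matrix (Fin m ⊕ Fin m) (Fin m ⊕ Fin m) F₀)) i0 i0) = a := by
      rw [h1, Matrix.one_apply_eq, mul_one]
    have hne : (((g : GL (Fin m ⊕ Fin m) F₀) : Matrix (Fin m ⊕ Fin m) (Fin m ⊕ Fin m) F₀)) i0 i0 ≠ 0 := by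
      intro h2
      rw [h2, map_zero] at ha0
      exact a.ne_zero ha0.symm
    refine ⟨Units.mk0 _ hne, ?_⟩
    ext i k
    apply j.injective
    rw [h1, Matrix.smul_apply, smul_eq_mul, map_mul, Units.val_mk0, ha0]
    congr 1
    rw [Matrix.one_apply, Matrix.one_apply]
    split_ifs
    · exact (map_one j).symm
    · exact (map_zero j).symm
  · rintro ⟨c, hc⟩
    have h1 : (simHom m F (mapSim hm j g) : Equiv.Perm (Fin m ⊕ Fin m → F)) = scal m F (Units.map (j : F₀ →* F) c) := by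
      rw [h0, hc]
      ext i k
      rw [Matrix.map_apply, Matrix.smul_apply, Matrix.smul_apply, smul_eq_mul, smul_eq_mul, map_mul, Matrix.one_apply,
        Matrix.one_apply]
      split_ifs
      · rw [map_one]; rfl
      · rw [map_zero, mul_zero, mul_zero]
    have h2 : scal m F (Units.map (j : F₀ →* F) c) ∈ semiSim m F := by rw [← h1]; exact Subtype.property _
    have h3 : simHom m F (mapSim hm j g) = ⟨scal m F (Units.map (j : F₀ →* F) c), h2⟩ := Subtype.ext h1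
    rw [h3, Psi_scal]

/-- The standard field automorphism. -/
def frob (m : ℕ) (σ : F ≃+* F) : semiSim m F := ⟨frobPerm m σ, σ, 1, one_ne_zero, isSemi_frobPerm σ⟩

/-- Conjugating a similitude by the field automorphism. -/
theorem frob_conj (σ : F ≃+* F) (g : GL (Fin m ⊕ Fin m) F) (v : Fin m ⊕ Fin m → F) :
    frobPerm m σ (permOf g (RingEquiv.refl F) v) = ((gm σ g : GL (Fin m ⊕ Fin m) F) : Matrix (Fin m ⊕ Fin m) (Fin m ⊕ Fin m) F) *ᵥ frobPerm m σ v := by
  rw [coe_gm]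
  exact Descent.map_mulVec σ (g : Matrix (Fin m ⊕ Fin m) (Fin m ⊕ Fin m) F) v

/-- **The centralizer of the field automorphism.** -/
theorem range_Th (hm : 1 ≤ m) {σ : F ≃+* F} {j : F₀ →+* F} (hj : ∀ a, σ a = a ↔ ∃ b, j b = a) :
    (Th hm j).range = inndiagPSp m F ⊓ Subgroup.centralizer {Psi m F (frob m σ)} := by
  haveI : Nonempty (Fin m ⊕ Fin m) := ⟨Sum.inl ⟨0, hm⟩⟩
  ext β
  rw [Subgroup.mem_inf, Subgroup.mem_centralizer_singleton_iff, mem_inndiag, MonoidHom.mem_range]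
  constructor
  · rintro ⟨g, rfl⟩
    refine ⟨⟨_, sim_mem_lin _, rfl⟩, ?_⟩
    rw [Th_apply, ← map_mul, ← map_mul]
    congr 1
    apply Subtype.ext
    ext1 v
    change permOf (mapSim hm j g : GL (Fin m ⊕ Fin m) F) (RingEquiv.refl F) (frobPerm m σ v) =
      frobPerm m σ (permOf (mapSim hm j g : GL (Fin m ⊕ Fin m) F) (RingEquiv.refl F) v)
    rw [frob_conj]
    have h1 : gm σ (mapSim hm j g : GL (Fin m ⊕ Fin m) F) = (mapSim hm j g : GL (Fin m ⊕ Fin m) F) := by
      apply Units.ext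
      rw [coe_gm, coe_mapSim]
      ext i k
      rw [Matrix.map_apply, Matrix.map_apply]
      exact (hj _).2 ⟨_, rfl⟩
    rw [h1]
    rfl
  · rintro ⟨⟨h, hh, rfl⟩, hc⟩
    obtain ⟨g, rfl⟩ := exists_sim_of_lin hh
    have h1 : Psi m F (simHom m F g * frob m σ * (simHom m F g)⁻¹ * (frob m σ)⁻¹) = 1 := by
      rw [map_mul, map_mul, map_mul, map_inv, map_inv, hc, mul_inv_cancel_right, mul_inv_cancel]
    obtain ⟨a, ha⟩ := exists_scal_of_Psi_eq_one hm _ h1
    have h2 : simHom m F g * frob m σ = (simHom m F g * frob m σ * (simHom m F g)⁻¹ * (frob m σ)⁻¹) *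
        (frob m σ * simHom m F g) := by group
    have h3 : ∀ v, ((g : GL (Fin m ⊕ Fin m) F) : Matrix (Fin m ⊕ Fin m) (Fin m ⊕ Fin m) F) *ᵥ frobPerm m σ v =
        (a : F) • (((gm σ (g : GL (Fin m ⊕ Fin m) F) : GL (Fin m ⊕ Fin m) F) : Matrix (Fin m ⊕ Fin m) (Fin m ⊕ Fin m) F) *ᵥ frobPerm m σ v) := by
      intro v
      have h4 := congrArg (fun k : semiSim m F => (k : Equiv.Perm (Fin m ⊕ Fin m → F)) v) h2
      change ((g : GL (Fin m ⊕ Fin m) F) : Matrix (Fin m ⊕ Fin m) (Fin m ⊕ Fin m) F) *ᵥ frobPerm m σ v =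
        ((simHom m F g * frob m σ * (simHom m F g)⁻¹ * (frob m σ)⁻¹ : semiSim m F) : Equiv.Perm (Fin m ⊕ Fin m → F))
          (frobPerm m σ (permOf (g : GL (Fin m ⊕ Fin m) F) (RingEquiv.refl F) v)) at h4
      rw [ha, frob_conj] at h4
      exact h4
    have h4 : ((g : GL (Fin m ⊕ Fin m) F) : Matrix (Fin m ⊕ Fin m) (Fin m ⊕ Fin m) F) = (a : F) • ((g : GL (Fin m ⊕ Fin m) F) : Matrix (Fin m ⊕ Fin m) (Fin m ⊕ Fin m) F).map σ := by
      rw [← Matrix.mulVec_injective.eq_iff]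
      funext v
      have h5 := h3 ((frobPerm m σ)⁻¹ v)
      have h6 : frobPerm m σ ((frobPerm m σ)⁻¹ v) = v := (frobPerm m σ).apply_symm_apply v
      rw [h6] at h5
      rw [Matrix.smul_mulVec]
      exact h5
    have h5 : ((g : GL (Fin m ⊕ Fin m) F) : Matrix (Fin m ⊕ Fin m) (Fin m ⊕ Fin m) F).map σ = (a : F)⁻¹ • ((g : GL (Fin m ⊕ Fin m) F) : Matrix (Fin m ⊕ Fin m) (Fin m ⊕ Fin m) F) := by
      rw [eq_inv_smul_iff₀ a.ne_zero]
      exact h4.symm
    obtain ⟨e, he⟩ := exists_fixed_multiple h5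
    obtain ⟨M, hM⟩ := exists_descend_gl hj he
    have hMs : Matrix.GeneralLinearGroup.map j M ∈ GSp m F := by
      rw [hM]
      refine mul_mem ?_ g.2
      refine ⟨e * e, fun u v => ?_⟩
      rw [coe_scg, Matrix.smul_mulVec, Matrix.smul_mulVec, Matrix.one_mulVec, Matrix.one_mulVec, sympForm_smul_left,
        sympForm_smul_right, Units.val_mul, mul_assoc]
    rw [map_mem_iff hm] at hMs
    refine ⟨⟨M, hMs⟩, ?_⟩
    rw [Th_apply]
    have hes : scal m F e ∈ semiSim m F := ⟨_, _, mul_ne_zero e.ne_zero e.ne_zero, isSemi_scal e⟩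
    have h6 : simHom m F (mapSim hm j ⟨M, hMs⟩) = ⟨scal m F e, hes⟩ * simHom m F g := by
      apply Subtype.ext
      ext1 v
      change ((Matrix.GeneralLinearGroup.map j M : GL (Fin m ⊕ Fin m) F) : Matrix (Fin m ⊕ Fin m) (Fin m ⊕ Fin m) F) *ᵥ v =
        (e : F) • (((g : GL (Fin m ⊕ Fin m) F) : Matrix (Fin m ⊕ Fin m) (Fin m ⊕ Fin m) F) *ᵥ v)
      rw [hM, coe_scg_mul, Matrix.smul_mulVec]
    rw [h6, map_mul, Psi_scal, one_mul]

/-- The centralizer is the projective similitude group over the fixed field. -/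
theorem cent_equiv (hm : 1 ≤ m) {σ : F ≃+* F} {j : F₀ →+* F} (hj : ∀ a, σ a = a ↔ ∃ b, j b = a) :
    Nonempty (↥(inndiagPSp m F ⊓ Subgroup.centralizer {Psi m F (frob m σ)}) ≃* PGSp m F₀) := by
  rw [← range_Th hm hj]
  refine ⟨((QuotientGroup.quotientMulEquivOfEq (ker_Th hm j).symm).trans
    (QuotientGroup.quotientKerEquivRange (Th hm j))).symm⟩

end Cfsg.Agent.H202.PspCent
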