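import Mathlib
import Cfsg.Agent.H202.PspCent

/-!
# `PSp_{2m}(F)`: the number of `T`-classes in the `Inndiag`-class of a field automorphism (helper202)

* `mem_inn_iff` : the automorphism induced by a similitude is inner iff the multiplier is a square.
* `split_count`.
-/

set_option autoImplicit false
set_option linter.unusedSectionVars false
set_option linter.style.haveILetI false

namespace Cfsg.Agent.H202.PspSplit

open Cfsg
open scoped Matrix
open Cfsg.Agent.ClassicalGeometry.SympBasic Cfsg.Agent.ClassicalGeometry.SympAutSemi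
  Cfsg.Agent.ClassicalGeometry.SympGamma Cfsg.Agent.H966.PSpAut Cfsg.Agent.H202.Descent Cfsg.Agent.H202.Split
  Cfsg.Agent.H202.PspCent

universe u v

variable {F : Type u} [Field F] {F₀ : Type v} [Field F₀] {m : ℕ}

/-- The automorphism induced by a similitude of multiplier `e` is inner iff `e` is a square. -/
theorem mem_inn_iff (hm : 1 ≤ m) {h : semiSim m F} {e : F} (he : e ≠ 0) (hh : IsSemi h.1 (RingEquiv.refl F) e) :
    Psi m F h ∈ Inn (PSp m F) ↔ IsSquare e := by
  constructor
  · rintro ⟨x, hx⟩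
    induction x using QuotientGroup.induction_on with
    | H A =>
      have hr : rho m F A ∈ semiSim m F := ⟨RingEquiv.refl F, 1, one_ne_zero, isSemi_rho A⟩
      have h1 : Psi m F ⟨rho m F A, hr⟩ = Psi m F h := (Psi_rho A hr).trans hx
      have h2 : Psi m F (h * ⟨rho m F A, hr⟩⁻¹) = 1 := by
        rw [map_mul, map_inv, h1, mul_inv_cancel]
      obtain ⟨a, ha⟩ := exists_scal_of_Psi_eq_one hm _ h2
      have h3 : h.1 = scal m F a * rho m F A := by
        rw [← ha]
        change h.1 = h.1 * (rho m F A)⁻¹ * rho m F A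
        rw [inv_mul_cancel_right]
      have h4 := (isSemi_scal (m := m) a).mul (isSemi_rho A)
      rw [← h3] at h4
      obtain ⟨-, h5⟩ := IsSemi.unique hm hh h4
      refine ⟨(a : F), ?_⟩
      rw [h5, map_one, mul_one]
  · rintro ⟨a, ha⟩
    have ha0 : a ≠ 0 := by rintro rfl; exact he (by rw [ha, mul_zero])
    have h3 := (isSemi_scal (m := m) (Units.mk0 a ha0)⁻¹).mul hh
    obtain ⟨A, hA⟩ := exists_rho_eq (scal m F (Units.mk0 a ha0)⁻¹ * h.1) h3.1 h3.2.1 (by
      intro u v
      rw [h3.2.2]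
      have : ((((Units.mk0 a ha0)⁻¹ : Fˣ) : F) * ((Units.mk0 a ha0)⁻¹ : Fˣ) * (RingEquiv.refl F) e) = 1 := by
        rw [ha]
        change (((Units.mk0 a ha0)⁻¹ : Fˣ) : F) * ((Units.mk0 a ha0)⁻¹ : Fˣ) * (a * a) = 1
        rw [Units.val_inv_eq_inv_val, Units.val_mk0]
        field_simp
      rw [this, one_mul]
      rfl)
    have hs : scal m F (Units.mk0 a ha0) ∈ semiSim m F :=
      ⟨RingEquiv.refl F, _, mul_ne_zero (Units.ne_zero _) (Units.ne_zero _), isSemi_scal _⟩
    have hr : rho m F A ∈ semiSim m F := ⟨RingEquiv.refl F, 1, one_ne_zero, isSemi_rho A⟩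
    refine ⟨QuotientGroup.mk A, ?_⟩
    rw [← Psi_rho A hr]
    have h4 : h = ⟨scal m F (Units.mk0 a ha0), hs⟩ * ⟨rho m F A, hr⟩ := by
      apply Subtype.ext
      change h.1 = scal m F (Units.mk0 a ha0) * rho m F A
      rw [hA, ← mul_assoc]
      ext1 v
      rw [Equiv.Perm.mul_apply, Equiv.Perm.mul_apply, scal_apply, scal_apply, smul_smul,
        ← Units.val_mul, mul_inv_cancel, Units.val_one, one_smul]
    rw [h4, map_mul, Psi_scal, one_mul]

theorem inn_le : Inn (PSp m F) ≤ inndiagPSp m F := by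
  rintro _ ⟨g, rfl⟩
  induction g using QuotientGroup.induction_on with
  | H A =>
    have hr : rho m F A ∈ semiSim m F := ⟨RingEquiv.refl F, 1, one_ne_zero, isSemi_rho A⟩
    exact mem_inndiag.2 ⟨⟨rho m F A, hr⟩, ⟨1, one_ne_zero, isSemi_rho A⟩, Psi_rho A hr⟩

/-- The dilation as an element of `semiSim`. -/
def dil (m : ℕ) (l : Fˣ) : semiSim m F := ⟨dilPerm m l, RingEquiv.refl F, l, l.ne_zero, isSemi_dilPerm l⟩

theorem dil_mem (l : Fˣ) : Psi m F (dil m l) ∈ inndiagPSp m F :=
  mem_inndiag.2 ⟨dil m l, ⟨l, l.ne_zero, isSemi_dilPerm l⟩, rfl⟩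

/-- Multipliers of elements of the centralizer. -/
theorem multiplier_of_Th (hm : 1 ≤ m) (j : F₀ →+* F) (g : GSp m F₀) :
    ∃ c : F₀, c ≠ 0 ∧ IsSemi (simHom m F (mapSim hm j g)).1 (RingEquiv.refl F) (j c) := by
  obtain ⟨c, hc⟩ := g.2
  have hjc : j (c : F₀) ≠ 0 := by
    intro h
    exact c.ne_zero (j.injective (h.trans (map_zero j).symm))
  obtain ⟨e, he, hs⟩ := isSemi_of_mem_GSp (mapSim hm j g).2
  refine ⟨c, c.ne_zero, ?_⟩
  have h1 : e = j c := by
    let i0 : Fin m := ⟨0, hm⟩
    have h2 : sympForm m F (((mapSim hm j g : GL (Fin m ⊕ Fin m) F) : Matrix (Fin m ⊕ Fin m) (Fin m ⊕ Fin m) F) *ᵥ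
      Pi.single (Sum.inr i0) 1)
      (((mapSim hm j g : GL (Fin m ⊕ Fin m) F) : Matrix (Fin m ⊕ Fin m) (Fin m ⊕ Fin m) F) *ᵥ
        Pi.single (Sum.inl i0) 1) = e * (RingEquiv.refl F) (sympForm m F (Pi.single (Sum.inr i0) 1)
          (Pi.single (Sum.inl i0) 1)) := hs.2.2 (Pi.single (Sum.inr i0) 1) (Pi.single (Sum.inl i0) 1)
    rw [coe_mapSim, ← single_map j, ← single_map j, map_mulVec_hom, map_mulVec_hom, sympForm_map, hc, sympForm_map,
      sympForm_single_inr_left, Pi.single_eq_same, mul_one, RingEquiv.refl_apply, map_one, mul_one] at h2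
    exact h2.symm
  rw [← h1]
  exact hs

theorem isSquare_map_of_sq [Fintype F] [Fintype F₀] (h2 : ringChar F ≠ 2) (j : F₀ →+* F)
    (hc : Fintype.card F = Fintype.card F₀ ^ 2) {c : F₀} (hc0 : c ≠ 0) : IsSquare (j c) := by
  have hj0 : j c ≠ 0 := fun h => hc0 (j.injective (h.trans (map_zero j).symm))
  rw [FiniteField.isSquare_iff h2 hj0, ← map_pow]
  have h3 : Fintype.card F % 2 = 1 := FiniteField.odd_card_of_char_ne_two h2
  have h4 : Fintype.card F₀ % 2 = 1 := by
    by_contra h
    have h5 : Fintype.card F₀ % 2 = 0 := by omega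
    rw [hc, Nat.pow_mod, h5] at h3
    norm_num at h3
  obtain ⟨k, hk⟩ : ∃ k, Fintype.card F₀ = 2 * k + 1 := ⟨Fintype.card F₀ / 2, by omega⟩
  have h6 : Fintype.card F / 2 = (Fintype.card F₀ - 1) * (k + 1) := by
    rw [hc, hk]
    have : (2 * k + 1) ^ 2 = 2 * (2 * k * (k + 1)) + 1 := by ring
    rw [this]
    have h7 : 2 * k + 1 - 1 = 2 * k := by omega
    rw [h7]
    omega
  rw [h6, pow_mul, FiniteField.pow_card_sub_one_eq_one c hc0, one_pow, map_one]

theorem isSquare_of_map {σ : F ≃+* F} {j : F₀ →+* F} (hj : ∀ a, σ a = a ↔ ∃ b, j b = a) (h2 : (2 : F) ≠ 0)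
    {r : ℕ} (hr : Odd r) (hσ : σ ^ r = 1) {c : F₀} (h : IsSquare (j c)) : IsSquare c := by
  obtain ⟨b, hb⟩ := h
  have h1 : σ b * σ b = b * b := by
    rw [← map_mul, ← hb]
    exact (hj _).2 ⟨c, rfl⟩
  rcases mul_self_eq_mul_self_iff.1 h1 with h3 | h3
  · obtain ⟨d, hd⟩ := (hj b).1 h3
    refine ⟨d, j.injective ?_⟩
    rw [map_mul, hd, hb]
  · have h4 : ∀ k : ℕ, (σ ^ k) b = (-1) ^ k * b := by
      intro k
      induction k with
      | zero => simp
      | succ k ih =>
        rw [pow_succ, RingAut.mul_apply, h3, map_neg, ih, pow_succ]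
        ring
    have h5 := h4 r
    rw [hσ, hr.neg_one_pow] at h5
    have h6 : b = -b := by
      rw [neg_one_mul] at h5
      exact h5
    have h7 : b = 0 := by
      have : (2 : F) * b = 0 := by linear_combination h6
      exact (mul_eq_zero.1 this).resolve_left h2
    rw [h7, mul_zero] at hb
    refine ⟨0, j.injective ?_⟩
    rw [hb, mul_zero, map_zero]

/-- Products of two nonsquares. -/
theorem isSquare_mul_of_not [Fintype F] {a b : F} (ha0 : a ≠ 0) (hb0 : b ≠ 0) (ha : ¬ IsSquare a)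
    (hb : ¬ IsSquare b) : IsSquare (a * b) := by
  classical
  by_cases h2 : ringChar F = 2
  · exact absurd (FiniteField.isSquare_of_char_two h2 a) ha
  rw [← quadraticChar_one_iff_isSquare (mul_ne_zero ha0 hb0), map_mul, quadraticChar_neg_one_iff_not_isSquare.2 ha,
    quadraticChar_neg_one_iff_not_isSquare.2 hb]
  norm_num

/-- Odd characteristic: `Inn` has index two in `Inndiag`. -/
theorem relIndex_inn [Fintype F] (hm : 1 ≤ m) (h2 : ringChar F ≠ 2) :
    (Inn (PSp m F)).relIndex (inndiagPSp m F) = 2 := by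
  obtain ⟨a, ha⟩ := FiniteField.exists_nonsquare h2
  have ha0 : a ≠ 0 := by rintro rfl; exact ha ⟨0, by simp⟩
  rw [Subgroup.relIndex, Subgroup.index_eq_two_iff]
  refine ⟨⟨Psi m F (dil m (Units.mk0 a ha0)), dil_mem _⟩, ?_⟩
  rintro ⟨b, hb⟩
  obtain ⟨h, ⟨e, he, hs⟩, rfl⟩ := mem_inndiag.1 hb
  rw [Subgroup.mem_subgroupOf, Subgroup.mem_subgroupOf]
  change Xor (Psi m F h * Psi m F (dil m (Units.mk0 a ha0)) ∈ Inn (PSp m F)) (Psi m F h ∈ Inn (PSp m F))
  have h3 := hs.mul (isSemi_dilPerm (m := m) (Units.mk0 a ha0))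
  have h4 : e * (RingEquiv.refl F) ((Units.mk0 a ha0 : Fˣ) : F) = e * a := rfl
  rw [h4] at h3
  rw [← map_mul, mem_inn_iff hm (h := h * dil m (Units.mk0 a ha0)) (mul_ne_zero he ha0) h3, mem_inn_iff hm he hs]
  by_cases h5 : IsSquare e
  · right
    refine ⟨h5, fun h6 => ha ?_⟩
    obtain ⟨x, hx⟩ := h5
    obtain ⟨y, hy⟩ := h6
    have hx0 : x ≠ 0 := by rintro rfl; exact he (by rw [hx, mul_zero])
    refine ⟨y / x, ?_⟩
    rw [hx] at hy
    field_simp
    linear_combination hy
  · left
    exact ⟨isSquare_mul_of_not he ha0 h5 ha, h5⟩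

/-- **The number of classes.** -/
theorem split_count [Fintype F] [Fintype F₀] (hm : 2 ≤ m) {σ : F ≃+* F} {j : F₀ →+* F}
    (hj : ∀ a, σ a = a ↔ ∃ b, j b = a) {r : ℕ} (hr : r.Prime) (hσ : orderOf σ = r)
    (hc : Fintype.card F = Fintype.card F₀ ^ r) :
    splitClassCount (inndiagPSp m F) (Inn (PSp m F)) (Psi m F (frob m σ)) =
      Nat.gcd (Nat.gcd 2 (Fintype.card F - 1)) r := by
  have hm1 : 1 ≤ m := by omega
  have hσr : σ ^ r = 1 := by rw [← hσ]; exact pow_orderOf_eq_one σ
  have hnorm : ∀ h ∈ inndiagPSp m F, ∀ k ∈ Inn (PSp m F), h * k * h⁻¹ ∈ Inn (PSp m F) := by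
    intro h _ k hk
    exact (inner_normal (PSp m F)).conj_mem k hk h
  rw [splitClassCount_eq inn_le hnorm]
  by_cases h2 : ringChar F = 2
  · have h20 : (2 : F) = 0 := by
      have := ringChar.Nat.cast_ringChar (R := F)
      rw [h2] at this
      exact_mod_cast this
    have h3 : inndiagPSp m F = Inn (PSp m F) := inndiag_eq_inner h20
    have h4 : (Inn (PSp m F) ⊔ inndiagPSp m F ⊓ Subgroup.centralizer {Psi m F (frob m σ)}).relIndex
        (inndiagPSp m F) = 1 := by
      rw [Subgroup.relIndex_eq_one, h3]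
      exact le_sup_left
    rw [h4]
    have h5 : Nat.gcd 2 (Fintype.card F - 1) = 1 := by
      have h6 : Fintype.card F % 2 = 0 := FiniteField.even_card_of_char_two h2
      have h7 : 1 < Fintype.card F := Fintype.one_lt_card
      have h8 : Odd (Fintype.card F - 1) := by
        rw [Nat.odd_iff]; omega
      exact (Nat.coprime_two_left.2 h8)
    rw [h5, Nat.gcd_one_left]
  · have h20 : (2 : F) ≠ 0 := Ring.two_ne_zero h2
    have hgcd : Nat.gcd 2 (Fintype.card F - 1) = 2 := by
      have h6 : Fintype.card F % 2 = 1 := FiniteField.odd_card_of_char_ne_two h2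
      exact Nat.gcd_eq_left (by omega)
    rw [hgcd]
    have hrange := range_Th (m := m) hm1 hj
    by_cases hr2 : r = 2
    · have h5 : inndiagPSp m F ⊓ Subgroup.centralizer {Psi m F (frob m σ)} ≤ Inn (PSp m F) := by
        rw [← hrange]
        rintro _ ⟨g, rfl⟩
        obtain ⟨c, hc0, hs⟩ := multiplier_of_Th hm1 j g
        have hjc : j c ≠ 0 := fun h => hc0 (j.injective (h.trans (map_zero j).symm))
        rw [Th_apply, mem_inn_iff hm1 hjc hs]
        exact isSquare_map_of_sq h2 j (by rw [hc, hr2]) hc0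
      rw [sup_eq_left.2 h5, relIndex_inn hm1 h2, hr2, Nat.gcd_self]
    · have hodd : Odd r := hr.odd_of_ne_two hr2
      have h5 : (Inn (PSp m F) ⊔ inndiagPSp m F ⊓ Subgroup.centralizer {Psi m F (frob m σ)}).relIndex
          (inndiagPSp m F) = 1 := by
        rw [Subgroup.relIndex_eq_one]
        -- a nonsquare of `F₀`
        have h20' : ringChar F₀ ≠ 2 := by
          intro h
          have h7 : (2 : F₀) = 0 := by
            have := ringChar.Nat.cast_ringChar (R := F₀)
            rw [h] at this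
            exact_mod_cast this
          apply h20
          have := congrArg j h7
          rwa [map_ofNat, map_zero] at this
        obtain ⟨c, hc0⟩ := FiniteField.exists_nonsquare h20'
        have hcne : c ≠ 0 := by rintro rfl; exact hc0 ⟨0, by simp⟩
        have hjc : j c ≠ 0 := fun h => hcne (j.injective (h.trans (map_zero j).symm))
        have hjs : ¬ IsSquare (j c) := fun h => hc0 (isSquare_of_map hj h20 hodd hσr h)
        -- the dilation
        have hd : Psi m F (dil m (Units.mk0 _ hjc)) ∈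
            inndiagPSp m F ⊓ Subgroup.centralizer {Psi m F (frob m σ)} := by
          refine Subgroup.mem_inf.2 ⟨dil_mem _, ?_⟩
          rw [Subgroup.mem_centralizer_singleton_iff, ← map_mul, ← map_mul]
          congr 1
          apply Subtype.ext
          ext1 v
          change dilPerm m (Units.mk0 _ hjc) (frobPerm m σ v) = frobPerm m σ (dilPerm m (Units.mk0 _ hjc) v)
          have hfix : σ (j c) = j c := (hj _).2 ⟨c, rfl⟩
          funext i
          rcases i with i | i
          · rw [dilPerm_inl, frobPerm_apply, frobPerm_apply, dilPerm_inl, map_mul, Units.val_mk0, hfix]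
          · rw [dilPerm_inr, frobPerm_apply, frobPerm_apply, dilPerm_inr]
        intro β hβ
        obtain ⟨h, ⟨e, he, hs⟩, rfl⟩ := mem_inndiag.1 hβ
        by_cases h6 : IsSquare e
        · exact Subgroup.mem_sup_left ((mem_inn_iff hm1 he hs).2 h6)
        · have h7 := hs.mul (isSemi_dilPerm (m := m) (Units.mk0 _ hjc))
          have h8 : e * (RingEquiv.refl F) ((Units.mk0 _ hjc : Fˣ) : F) = e * j c := rfl
          rw [h8] at h7
          have h9 : Psi m F h * Psi m F (dil m (Units.mk0 _ hjc)) ∈ Inn (PSp m F) := by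
            rw [← map_mul, mem_inn_iff hm1 (h := h * dil m (Units.mk0 _ hjc)) (mul_ne_zero he hjc) h7]
            exact isSquare_mul_of_not he hjc h6 hjs
          have h10 : Psi m F h = Psi m F h * Psi m F (dil m (Units.mk0 _ hjc)) *
              (Psi m F (dil m (Units.mk0 _ hjc)))⁻¹ := by rw [mul_inv_cancel_right]
          rw [h10]
          exact mul_mem (Subgroup.mem_sup_left h9) (inv_mem (Subgroup.mem_sup_right hd))
      rw [h5]
      have h6 : Nat.gcd 2 r = 1 := Nat.coprime_two_left.2 hodd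
      rw [h6]

end Cfsg.Agent.H202.PspSplit
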