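import Mathlib
import Cfsg.Agent.H384.TwoTrans
import Cfsg.Agent.S2119

/-!
# HUB H1, P10: 2-transitive groups with alternating socle, part A: general lemmas (helper202)

* `double_coset` : two elements moving `α` are in the same double coset of the stabilizer;
* `dvd_of_fpf` : `|Ω| - 1` divides the size of a set `C` closed under conjugation whose elements move `α`;
* `exists_emb` : an almost simple group with socle `A_m`, `m ≥ 5`, `m ≠ 6`, embeds in `S_m`.
-/

set_option autoImplicit false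
set_option linter.unusedSectionVars false

namespace Cfsg.Agent.H202.TwoTransAlt

open MulAction Equiv Cfsg.Agent.H384.TwoTrans

section Gen

variable {G : Type*} {Ω : Type*} [Group G] [MulAction G Ω]

theorem double_coset (h2 : IsMultiplyPretransitive G Ω 2) (α : Ω) {g₁ g₂ : G} (h₁ : g₁ • α ≠ α)
    (h₂ : g₂ • α ≠ α) : ∃ h ∈ stabilizer G α, ∃ h' ∈ stabilizer G α, g₂ = h * g₁ * h' := by
  rw [is_two_pretransitive_iff] at h2
  obtain ⟨h, h3, h4⟩ := h2 h₁.symm h₂.symm
  refine ⟨h, h3, g₁⁻¹ * h⁻¹ * g₂, ?_, by group⟩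
  rw [mem_stabilizer_iff, mul_smul, mul_smul, ← h4, inv_smul_smul, inv_smul_smul]

theorem dvd_of_fpf [Finite G] [Finite Ω] (h2 : IsMultiplyPretransitive G Ω 2) (α : Ω) (C : Set G)
    (hC : ∀ g c, c ∈ C → g * c * g⁻¹ ∈ C) (hfpf : ∀ c ∈ C, c • α ≠ α) : Nat.card Ω - 1 ∣ Nat.card C := by
  classical
  have : Fintype Ω := Fintype.ofFinite Ω
  rw [is_two_pretransitive_iff] at h2
  let X := {β : Ω // β ≠ α}
  let f : C → X := fun c => ⟨(c : G) • α, hfpf c c.2⟩
  have h1 : Nat.card C = ∑ β : X, Nat.card {c : C // f c = β} := by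
    rw [← Nat.card_sigma, Nat.card_congr (Equiv.sigmaFiberEquiv f)]
  have h3 : ∀ β β' : X, Nat.card {c : C // f c = β} ≤ Nat.card {c : C // f c = β'} := by
    intro β β'
    obtain ⟨g, hg, hg'⟩ := h2 β.2 β'.2 (c := β') (d := α)
    have key : ∀ c : {c : C // f c = β}, f ⟨g * (c : C) * g⁻¹, hC _ _ (c : C).2⟩ = β' := by
      intro c
      apply Subtype.ext
      change (g * ((c : C) : G) * g⁻¹) • α = β'
      rw [mul_smul, mul_smul]
      have h5 : g⁻¹ • α = α := by rw [inv_smul_eq_iff, hg']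
      have h6 : ((c : C) : G) • α = (β : Ω) := congrArg Subtype.val c.2
      rw [h5, h6, hg]
    refine Nat.card_le_card_of_injective (fun c => ⟨⟨g * (c : C) * g⁻¹, hC _ _ (c : C).2⟩, key c⟩) ?_
    intro c c' h
    have h7 := congrArg (fun x : {c : C // f c = β'} => ((x : C) : G)) h
    apply Subtype.ext
    apply Subtype.ext
    exact mul_left_cancel (mul_right_cancel h7)
  have h4 : Fintype.card X = Nat.card Ω - 1 := by
    rw [Fintype.card_subtype_compl (fun β => β = α), Fintype.card_subtype_eq, Nat.card_eq_fintype_card]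
  rcases isEmpty_or_nonempty X with hX | ⟨⟨β₀⟩⟩
  · rw [h1]
    rw [Finset.univ_eq_empty, Finset.sum_empty]
    exact dvd_zero _
  · rw [h1, Finset.sum_congr rfl (fun β _ => le_antisymm (h3 β β₀) (h3 β₀ β)), Finset.sum_const, Finset.card_univ, h4,
      smul_eq_mul]
    exact dvd_mul_right _ _

end Gen

/-- `ψ` embeds `G` in `S_m`, and maps `T` onto `A_m`. -/
structure Emb {G : Type*} [Group G] (T : Subgroup G) (m : ℕ) (ψ : G →* Perm (Fin m)) : Prop where
  inj : Function.Injective ψ
  map : T.map ψ = alternatingGroup (Fin m)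

theorem exists_emb {G : Type*} [Group G] {T : Subgroup G} [T.Normal] (hT : Subgroup.centralizer (T : Set G) = ⊥)
    {m : ℕ} (hm : 5 ≤ m) (h6 : m ≠ 6) (e : T ≃* alternatingGroup (Fin m)) :
    ∃ ψ : G →* Perm (Fin m), Emb T m ψ := by
  let c : Perm (Fin m) ≃* MulAut (alternatingGroup (Fin m)) :=
    MulEquiv.ofBijective MulAut.conjNormal (S2119.result m (by omega) h6)
  let ψ : G →* Perm (Fin m) := c.symm.toMonoidHom.comp ((MulAut.congr e).toMonoidHom.comp
    (MulAut.conjNormal : G →* MulAut T))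
  have hψ : ∀ g : G, ψ g = c.symm (MulAut.congr e (MulAut.conjNormal g)) := fun g => rfl
  have hψT : ∀ t : T, ψ (t : G) = (e t : Perm (Fin m)) := by
    intro t
    rw [hψ, MulEquiv.symm_apply_eq]
    refine MulEquiv.ext fun x => Subtype.ext ?_
    change ((e (MulAut.conjNormal (t : G) (e.symm x)) : alternatingGroup (Fin m)) : Perm (Fin m)) =
      ((MulAut.conjNormal ((e t : alternatingGroup (Fin m)) : Perm (Fin m)) x : alternatingGroup (Fin m)) :
        Perm (Fin m))
    have h1 : MulAut.conjNormal (t : G) (e.symm x) = t * e.symm x * t⁻¹ := by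
      apply Subtype.ext
      rw [MulAut.conjNormal_apply]
      rfl
    rw [h1, map_mul, map_mul, map_inv, MulEquiv.apply_symm_apply, MulAut.conjNormal_apply]
    rfl
  refine ⟨ψ, ⟨?_, ?_⟩⟩
  · rw [injective_iff_map_eq_one]
    intro g hg
    rw [hψ, map_eq_one_iff _ c.symm.injective, map_eq_one_iff _ (MulAut.congr e).injective] at hg
    have h1 : g ∈ Subgroup.centralizer (T : Set G) := by
      rw [Subgroup.mem_centralizer_iff]
      intro t ht
      have h2 := congrArg (fun f : MulAut T => ((f ⟨t, ht⟩ : T) : G)) hg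
      simp only [MulAut.conjNormal_apply, MulAut.one_apply] at h2
      rw [mul_inv_eq_iff_eq_mul] at h2
      exact h2.symm
    rw [hT] at h1
    exact Subgroup.mem_bot.1 h1
  · ext x
    constructor
    · rintro ⟨t, ht, rfl⟩
      rw [hψT ⟨t, ht⟩]
      exact (e ⟨t, ht⟩).2
    · intro hx
      refine ⟨(e.symm ⟨x, hx⟩ : T), (e.symm ⟨x, hx⟩).2, ?_⟩
      rw [hψT, MulEquiv.apply_symm_apply]

end Cfsg.Agent.H202.TwoTransAlt
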