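import Mathlib
import Cfsg.Agent.H202.TwoTransAltA

/-!
# HUB H1, P10: 2-transitive groups with alternating socle, part B: intransitive and imprimitive stabilizers (helper202)
-/

set_option autoImplicit false
set_option linter.unusedSectionVars false

namespace Cfsg.Agent.H202.TwoTransAlt

open MulAction Equiv Cfsg.Agent.H384.TwoTrans

section Cyc

variable {m : ℕ}

theorem c3_mem {a b c : Fin m} (hab : a ≠ b) (hac : a ≠ c) : swap a c * swap a b ∈ alternatingGroup (Fin m) := by
  rw [Perm.mem_alternatingGroup, Perm.sign_mul, Perm.sign_swap hac, Perm.sign_swap hab]; rfl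

theorem d2_mem {a b c d : Fin m} (hac : a ≠ c) (hbd : b ≠ d) : swap a c * swap b d ∈ alternatingGroup (Fin m) := by
  rw [Perm.mem_alternatingGroup, Perm.sign_mul, Perm.sign_swap hac, Perm.sign_swap hbd]; rfl

theorem c3_a {a b c : Fin m} (hab : a ≠ b) (hbc : b ≠ c) : (swap a c * swap a b) a = b := by
  rw [Perm.mul_apply, swap_apply_left, swap_apply_of_ne_of_ne hab.symm hbc]

theorem c3_b {a b c : Fin m} : (swap a c * swap a b) b = c := by
  rw [Perm.mul_apply, swap_apply_right, swap_apply_left]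

theorem c3_c {a b c : Fin m} (hac : a ≠ c) (hbc : b ≠ c) : (swap a c * swap a b) c = a := by
  rw [Perm.mul_apply, swap_apply_of_ne_of_ne hac.symm hbc.symm, swap_apply_right]

theorem c3_other {a b c x : Fin m} (ha : x ≠ a) (hb : x ≠ b) (hc : x ≠ c) : (swap a c * swap a b) x = x := by
  rw [Perm.mul_apply, swap_apply_of_ne_of_ne ha hb, swap_apply_of_ne_of_ne ha hc]

theorem d2_b {a b c d : Fin m} (had : a ≠ d) (hcd : c ≠ d) : (swap a c * swap b d) b = d := by
  rw [Perm.mul_apply, swap_apply_left, swap_apply_of_ne_of_ne had.symm hcd.symm]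

theorem d2_d {a b c d : Fin m} (hab : a ≠ b) (hbc : b ≠ c) : (swap a c * swap b d) d = b := by
  rw [Perm.mul_apply, swap_apply_right, swap_apply_of_ne_of_ne hab.symm hbc]

theorem d2_a {a b c d : Fin m} (hab : a ≠ b) (had : a ≠ d) : (swap a c * swap b d) a = c := by
  rw [Perm.mul_apply, swap_apply_of_ne_of_ne hab had, swap_apply_left]

theorem d2_c {a b c d : Fin m} (hbc : b ≠ c) (hcd : c ≠ d) : (swap a c * swap b d) c = a := by
  rw [Perm.mul_apply, swap_apply_of_ne_of_ne hbc.symm hcd, swap_apply_right]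

theorem d2_other {a b c d x : Fin m} (ha : x ≠ a) (hb : x ≠ b) (hc : x ≠ c) (hd : x ≠ d) :
    (swap a c * swap b d) x = x := by
  rw [Perm.mul_apply, swap_apply_of_ne_of_ne hb hd, swap_apply_of_ne_of_ne ha hc]

theorem ne_of_r {r : Setoid (Fin m)} {a b c : Fin m} (h : ¬ r a c) (h' : r b c) : a ≠ b := fun e => h (by rw [e]; exact h')

end Cyc

variable {G : Type*} {Ω : Type*} [Group G] [MulAction G Ω] {T : Subgroup G} {m : ℕ} {ψ : G →* Perm (Fin m)}

theorem Emb.exists_of_mem (E : Emb T m ψ) {σ : Perm (Fin m)} (hσ : σ ∈ alternatingGroup (Fin m)) :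
    ∃ t ∈ T, ψ t = σ := by
  rw [← E.map] at hσ
  obtain ⟨t, ht, rfl⟩ := hσ
  exact ⟨t, ht, rfl⟩

/-- a fixed point of the stabilizer -/
theorem card_of_fix [Finite G] [Finite Ω] (hm : 5 ≤ m) (E : Emb T m ψ) [IsPretransitive G Ω] (α : Ω)
    (hco : IsCoatom (stabilizer G α)) (i : Fin m) (hi : ∀ h ∈ stabilizer G α, ψ h i = i) : Nat.card Ω = m := by
  classical
  letI act : MulAction G (Fin m) := MulAction.compHom (Fin m) ψ
  have hact : ∀ (g : G) (x : Fin m), g • x = ψ g x := fun g x => rfl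
  have htr : IsPretransitive G (Fin m) := by
    constructor
    intro x y
    by_cases hxy : x = y
    · exact ⟨1, by rw [hxy, one_smul]⟩
    · obtain ⟨z, hz⟩ : ∃ z : Fin m, z ∉ ({x, y} : Finset (Fin m)) := by
        by_contra hcon
        push Not at hcon
        have h1 := Finset.card_le_card (fun z _ => hcon z : (Finset.univ : Finset (Fin m)) ⊆ {x, y})
        rw [Finset.card_univ, Fintype.card_fin] at h1
        have h2 := Finset.card_insert_le x {y}
        rw [Finset.card_singleton] at h2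
        omega
      rw [Finset.mem_insert, Finset.mem_singleton, not_or] at hz
      obtain ⟨t, -, ht⟩ := E.exists_of_mem (c3_mem (a := x) (b := y) (c := z) hxy (Ne.symm hz.1))
      exact ⟨t, by rw [hact, ht, c3_a hxy (Ne.symm hz.2)]⟩
  have hle : stabilizer G α ≤ stabilizer G i := fun h hh => hi h hh
  have hne : stabilizer G i ≠ ⊤ := by
    intro htop
    obtain ⟨j, hj⟩ : ∃ j : Fin m, j ≠ i := by
      by_cases hi0 : i = ⟨0, by omega⟩
      · exact ⟨⟨1, by omega⟩, by rw [hi0, Ne, Fin.mk.injEq]; omega⟩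
      · exact ⟨⟨0, by omega⟩, fun h => hi0 h.symm⟩
    obtain ⟨g, hg⟩ := htr.exists_smul_eq i j
    have : g ∈ stabilizer G i := by rw [htop]; trivial
    rw [mem_stabilizer_iff, hg] at this
    exact hj this
  have heq : stabilizer G i = stabilizer G α := (hco.le_iff.1 hle).resolve_left hne
  rw [← index_stabilizer_of_transitive G α, ← heq, index_stabilizer_of_transitive G i, Nat.card_eq_fintype_card,
    Fintype.card_fin]

/-- The intransitive case. -/
theorem intrans [Finite G] [Finite Ω] (hm : 5 ≤ m) (E : Emb T m ψ) (h2 : IsMultiplyPretransitive G Ω 2) (α : Ω)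
    (hco : IsCoatom (stabilizer G α)) (S : Set (Fin m)) (hS : S.Nonempty) (hS' : S ≠ Set.univ)
    (hinv : ∀ h ∈ stabilizer G α, ∀ x, x ∈ S ↔ ψ h x ∈ S) : Nat.card Ω = m := by
  classical
  haveI : IsPretransitive G Ω := isPretransitive_of_is_two_pretransitive
  obtain ⟨a, ha⟩ := hS
  obtain ⟨c, hc⟩ := (Set.ne_univ_iff_exists_notMem S).1 hS'
  by_cases h1 : ∀ x ∈ S, x = a
  · exact card_of_fix hm E α hco a fun h hh => h1 _ ((hinv h hh a).1 ha)
  by_cases h3 : ∀ x, x ∉ S → x = c
  · exact card_of_fix hm E α hco c fun h hh => h3 _ fun h4 => hc ((hinv h hh c).2 h4)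
  push Not at h1 h3
  obtain ⟨b, hb, hba⟩ := h1
  obtain ⟨d, hd, hdc⟩ := h3
  exfalso
  have hac : a ≠ c := fun h => hc (h ▸ ha)
  have hbc : b ≠ c := fun h => hc (h ▸ hb)
  have had : a ≠ d := fun h => hd (h ▸ ha)
  have hbd : b ≠ d := fun h => hd (h ▸ hb)
  let M : Subgroup G :=
    { carrier := {g | ∀ x, x ∈ S ↔ ψ g x ∈ S}
      mul_mem' := fun {g g'} hg hg' x => by rw [map_mul, Perm.mul_apply, ← hg, ← hg']
      one_mem' := fun x => by rw [map_one, Perm.one_apply]
      inv_mem' := fun {g} hg x => by rw [hg (ψ g⁻¹ x), ← Perm.mul_apply, ← map_mul, mul_inv_cancel, map_one,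
        Perm.one_apply] }
  have hM : ∀ g, g ∈ M ↔ ∀ x, x ∈ S ↔ ψ g x ∈ S := fun g => Iff.rfl
  have hle : stabilizer G α ≤ M := fun h hh => hinv h hh
  obtain ⟨t₁, -, ht₁⟩ := E.exists_of_mem (c3_mem (a := a) (b := b) (c := c) hba.symm hac)
  obtain ⟨t₂, -, ht₂⟩ := E.exists_of_mem (d2_mem (a := a) (b := b) (c := c) (d := d) hac hbd)
  have hn₁ : t₁ ∉ M := fun h => hc (by
    have := ((hM t₁).1 h b).1 hb
    rwa [ht₁, c3_b] at this)
  have hn₂ : t₂ ∉ M := fun h => hc (by
    have := ((hM t₂).1 h a).1 ha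
    rwa [ht₂, d2_a hba.symm had] at this)
  obtain ⟨h, hh, h', hh', he⟩ := double_coset h2 α (g₁ := t₁) (g₂ := t₂) (fun h => hn₁ (hle h)) (fun h => hn₂ (hle h))
  have key : ∀ x ∈ S, ψ t₂ x ∉ S → ψ h' x = b := by
    intro x hx hx'
    rw [he, map_mul, map_mul, Perm.mul_apply, Perm.mul_apply, ← hinv h hh, ht₁] at hx'
    have hx2 : ψ h' x ∈ S := (hinv h' hh' x).1 hx
    by_contra hne
    apply hx'
    by_cases hxa : ψ h' x = a
    · rw [hxa, c3_a hba.symm hbc]; exact hb
    · have hxc : ψ h' x ≠ c := fun h => hc (by rw [← h]; exact hx2)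
      rw [c3_other hxa hne hxc]; exact hx2
  have h5 := key a ha (by rw [ht₂, d2_a hba.symm had]; exact hc)
  have h6 := key b hb (by rw [ht₂, d2_b had hdc.symm]; exact hd)
  exact hba ((ψ h').injective (h6.trans h5.symm))

/-- The imprimitive case. -/
theorem imprim [Finite G] [Finite Ω] (hm : 5 ≤ m) (hm6 : m ≠ 6) (E : Emb T m ψ)
    (h2 : IsMultiplyPretransitive G Ω 2) (α : Ω) (r : Setoid (Fin m))
    (hinv : ∀ h ∈ stabilizer G α, ∀ x y, r x y ↔ r (ψ h x) (ψ h y))
    (htr : ∀ x y : Fin m, ∃ h ∈ stabilizer G α, ψ h x = y)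
    (hr1 : ∃ x x' : Fin m, x ≠ x' ∧ r x x') (hr2 : ∃ x y : Fin m, ¬ r x y) : False := by
  classical
  -- all classes have at least two elements
  have hr3 : ∀ x : Fin m, ∃ x', x' ≠ x ∧ r x x' := by
    intro x
    obtain ⟨u, u', huu, hu⟩ := hr1
    obtain ⟨h, hh, rfl⟩ := htr u x
    exact ⟨ψ h u', fun he => huu ((ψ h).injective he).symm, (hinv h hh u u').1 hu⟩
  obtain ⟨x, y, hxy⟩ := hr2
  obtain ⟨x', hx'x, hxx'⟩ := hr3 x
  obtain ⟨y', hy'y, hyy'⟩ := hr3 y
  have nxy : x ≠ y := fun h => hxy (h ▸ r.refl x)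
  have nx'y : x' ≠ y := fun h => hxy (h ▸ hxx')
  have nxy' : x ≠ y' := fun h => hxy (h ▸ r.symm hyy')
  have nx'y' : x' ≠ y' := fun h => hxy (r.trans hxx' (h ▸ r.symm hyy'))
  obtain ⟨t₁, -, ht₁⟩ := E.exists_of_mem (c3_mem (a := x) (b := x') (c := y) hx'x.symm nxy)
  have hn₁ : t₁ • α ≠ α := by
    intro h
    have h1 := (hinv t₁ h x x').1 hxx'
    rw [ht₁, c3_a hx'x.symm nx'y, c3_b] at h1
    exact hxy (r.trans hxx' h1)
  by_cases hz : ∃ z, ¬ r z x ∧ ¬ r z y
  · -- three classes
    obtain ⟨z, hzx, hzy⟩ := hz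
    obtain ⟨z', hz'z, hzz'⟩ := hr3 z
    have nxz : x ≠ z := fun h => hzx (h ▸ r.refl x)
    have nyz : y ≠ z := fun h => hzy (h ▸ r.refl y)
    have nx'z : x' ≠ z := (ne_of_r hzx (r.symm hxx')).symm
    have ny'z : y' ≠ z := (ne_of_r hzy (r.symm hyy')).symm
    have nz'x : z' ≠ x := fun h => hzx (by rw [← h]; exact hzz')
    have nz'y : z' ≠ y := fun h => hzy (by rw [← h]; exact hzz')
    obtain ⟨t₃, -, ht₃⟩ := E.exists_of_mem (c3_mem (a := x) (b := y) (c := z) nxy nxz)
    have hn₃ : t₃ • α ≠ α := by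
      intro h
      have h1 := (hinv t₃ h x x').1 hxx'
      rw [ht₃, c3_a nxy nyz, c3_other hx'x nx'y nx'z] at h1
      exact hxy (r.trans hxx' (r.symm h1))
    obtain ⟨h, hh, h', hh', he⟩ := double_coset h2 α hn₁ hn₃
    let gd : G → Finset (Fin m) := fun g => Finset.univ.filter fun u => ∀ v, r v u → r (ψ g v) (ψ g u)
    have hgd : ∀ g u, u ∈ gd g ↔ ∀ v, r v u → r (ψ g v) (ψ g u) := fun g u => by simp [gd]
    have hcard : (gd t₃).card = (gd t₁).card := by
      refine Finset.card_bij (fun u _ => ψ h' u) ?_ ?_ ?_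
      · intro u hu
        rw [hgd] at hu ⊢
        intro v hv
        have h3 : r ((ψ h').symm v) u := by
          rw [hinv h' hh', Equiv.apply_symm_apply]; exact hv
        have h4 := hu _ h3
        rw [he, map_mul, map_mul, Perm.mul_apply, Perm.mul_apply, Perm.mul_apply, Perm.mul_apply, ← hinv h hh,
          Equiv.apply_symm_apply] at h4
        exact h4
      · intro u _ v _ huv
        exact (ψ h').injective huv
      · intro u hu
        refine ⟨(ψ h').symm u, ?_, Equiv.apply_symm_apply _ _⟩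
        rw [hgd] at hu ⊢
        intro v hv
        rw [he, map_mul, map_mul, Perm.mul_apply, Perm.mul_apply, Perm.mul_apply, Perm.mul_apply, ← hinv h hh,
          Equiv.apply_symm_apply]
        apply hu
        rw [hinv h' hh', Equiv.apply_symm_apply] at hv
        exact hv
    let A : Finset (Fin m) := Finset.univ.filter fun u => ¬ r u x ∧ ¬ r u y
    let B : Finset (Fin m) := Finset.univ.filter fun u => ¬ r u x ∧ ¬ r u y ∧ ¬ r u z
    have hA : A ⊆ gd t₁ := by
      intro u hu
      rw [Finset.mem_filter] at hu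
      rw [hgd]
      intro v hv
      have hvx : ¬ r v x := fun h => hu.2.1 (r.trans (r.symm hv) h)
      have hvy : ¬ r v y := fun h => hu.2.2 (r.trans (r.symm hv) h)
      rw [ht₁, c3_other (ne_of_r hvx (r.refl x)) (ne_of_r hvx (r.symm hxx')) (ne_of_r hvy (r.refl y)),
        c3_other (ne_of_r hu.2.1 (r.refl x)) (ne_of_r hu.2.1 (r.symm hxx')) (ne_of_r hu.2.2 (r.refl y))]
      exact hv
    have hB : gd t₃ ⊆ B := by
      intro u hu
      rw [hgd, ht₃] at hu
      rw [Finset.mem_filter]
      refine ⟨Finset.mem_univ _, ?_, ?_, ?_⟩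
      · intro hux
        have nuy : u ≠ y := fun h => hxy (h ▸ r.symm hux)
        have nuz : u ≠ z := fun h => hzx (h ▸ hux)
        by_cases hu0 : u = x
        · have h3 := hu x' (by rw [hu0]; exact r.symm hxx')
          rw [hu0, c3_a nxy nyz, c3_other hx'x nx'y nx'z] at h3
          exact hxy (r.trans hxx' h3)
        · have h3 := hu x (r.symm hux)
          rw [c3_a nxy nyz, c3_other hu0 nuy nuz] at h3
          exact hxy (r.trans (r.symm hux) (r.symm h3))
      · intro huy
        have nux : u ≠ x := fun h => hxy (h ▸ huy)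
        have nuz : u ≠ z := fun h => hzy (h ▸ huy)
        by_cases hu0 : u = y
        · have h3 := hu y' (by rw [hu0]; exact r.symm hyy')
          rw [hu0, c3_b, c3_other nxy'.symm hy'y ny'z] at h3
          exact hzy (r.trans (r.symm h3) (r.symm hyy'))
        · have h3 := hu y (r.symm huy)
          rw [c3_b, c3_other nux hu0 nuz] at h3
          exact hzy (r.trans h3 huy)
      · intro huz
        have nux : u ≠ x := fun h => hzx (h ▸ r.symm huz)
        have nuy : u ≠ y := fun h => hzy (h ▸ r.symm huz)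
        by_cases hu0 : u = z
        · have h3 := hu z' (by rw [hu0]; exact r.symm hzz')
          rw [hu0, c3_c nxz nyz, c3_other nz'x nz'y hz'z] at h3
          exact hzx (r.trans hzz' h3)
        · have h3 := hu z (r.symm huz)
          rw [c3_c nxz nyz, c3_other nux nuy hu0] at h3
          exact hzx (r.trans (r.symm huz) (r.symm h3))
    have hAB : B ⊂ A := by
      rw [Finset.ssubset_iff_of_subset]
      · refine ⟨z, ?_, ?_⟩
        · rw [Finset.mem_filter]; exact ⟨Finset.mem_univ _, hzx, hzy⟩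
        · rw [Finset.mem_filter]; exact fun h => h.2.2.2 (r.refl z)
      · intro u hu
        rw [Finset.mem_filter] at hu ⊢
        exact ⟨hu.1, hu.2.1, hu.2.2.1⟩
    have h3 := Finset.card_lt_card hAB
    have h4 := Finset.card_le_card hA
    have h5 := Finset.card_le_card hB
    omega
  · -- two classes
    push Not at hz
    have hz' : ∀ z, r z x ∨ r z y := fun z => by
      by_cases h : r z x
      · exact Or.inl h
      · exact Or.inr (hz z h)
    let C : Finset (Fin m) := Finset.univ.filter fun u => r u x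
    let D : Finset (Fin m) := Finset.univ.filter fun u => r u y
    have hC : ∀ u, u ∈ C ↔ r u x := fun u => by simp [C]
    have hD : ∀ u, u ∈ D ↔ r u y := fun u => by simp [D]
    have hCD : C.card = D.card := by
      obtain ⟨h, hh, hhx⟩ := htr x y
      refine Finset.card_bij (fun u _ => ψ h u) ?_ ?_ ?_
      · intro u hu
        rw [hC] at hu
        rw [hD, ← hhx, ← hinv h hh]
        exact hu
      · intro u _ v _ huv
        exact (ψ h).injective huv
      · intro u hu
        rw [hD] at hu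
        refine ⟨(ψ h).symm u, ?_, Equiv.apply_symm_apply _ _⟩
        rw [hC, hinv h hh, Equiv.apply_symm_apply, hhx]
        exact hu
    have hsum : C.card + D.card = m := by
      rw [← Finset.card_union_of_disjoint]
      · have : C ∪ D = Finset.univ := by
          ext u
          rw [Finset.mem_union, hC, hD]
          exact ⟨fun _ => Finset.mem_univ _, fun _ => hz' u⟩
        rw [this, Finset.card_univ, Fintype.card_fin]
      · rw [Finset.disjoint_left]
        intro u hu hu'
        rw [hC] at hu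
        rw [hD] at hu'
        exact hxy (r.trans (r.symm hu) hu')
    have hC4 : 4 ≤ C.card := by omega
    have hD4 : 4 ≤ D.card := by omega
    have two : ∀ (S : Finset (Fin m)) (a b : Fin m), 4 ≤ S.card → ∃ w w', w ≠ w' ∧ w ∈ S ∧ w' ∈ S ∧ w ≠ a ∧ w ≠ b ∧
        w' ≠ a ∧ w' ≠ b := by
      intro S a b hS
      have h3 : 1 < ((S.erase a).erase b).card := by
        have h4 := Finset.pred_card_le_card_erase (s := S) (a := a)
        have h5 := Finset.pred_card_le_card_erase (s := S.erase a) (a := b)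
        omega
      obtain ⟨w, hw, w', hw', hne⟩ := Finset.one_lt_card.1 h3
      rw [Finset.mem_erase, Finset.mem_erase] at hw hw'
      exact ⟨w, w', hne, hw.2.2, hw'.2.2, hw.2.1, hw.1, hw'.2.1, hw'.1⟩
    obtain ⟨w, w', hww, hw, hw', hwx, hwx', hw'x, hw'x'⟩ := two C x x' hC4
    obtain ⟨v, v', hvv, hv, hv', hvy, hvy', hv'y, hv'y'⟩ := two D y y' hD4
    rw [hC] at hw hw'
    rw [hD] at hv hv'
    have hnwy : w ≠ y := fun h => hxy (h ▸ r.symm hw)
    have hnwy' : w ≠ y' := fun h => hxy (r.trans (r.symm hw) (h ▸ r.symm hyy'))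
    have hnw'y : w' ≠ y := fun h => hxy (h ▸ r.symm hw')
    have hnw'y' : w' ≠ y' := fun h => hxy (r.trans (r.symm hw') (h ▸ r.symm hyy'))
    have hnvx : v ≠ x := fun h => hxy (h ▸ hv)
    have hnvx' : v ≠ x' := fun h => hxy (r.trans hxx' (h ▸ hv))
    have hnv'x : v' ≠ x := fun h => hxy (h ▸ hv')
    have hnv'x' : v' ≠ x' := fun h => hxy (r.trans hxx' (h ▸ hv'))
    obtain ⟨t₂, -, ht₂⟩ := E.exists_of_mem (d2_mem (a := x) (b := x') (c := y) (d := y') nxy nx'y')
    have e_x : ψ t₂ x = y := by rw [ht₂, d2_a hx'x.symm nxy']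
    have e_x' : ψ t₂ x' = y' := by rw [ht₂, d2_b nxy' hy'y.symm]
    have e_y : ψ t₂ y = x := by rw [ht₂, d2_c nx'y hy'y.symm]
    have e_y' : ψ t₂ y' = x' := by rw [ht₂, d2_d hx'x.symm nx'y]
    have e_o : ∀ u, u ≠ x → u ≠ x' → u ≠ y → u ≠ y' → ψ t₂ u = u := by
      intro u h1 h3 h4 h5
      rw [ht₂, d2_other h1 h3 h4 h5]
    have hn₂ : t₂ • α ≠ α := by
      intro h
      have h1 := (hinv t₂ h w x).1 hw
      rw [e_x, e_o w hwx hwx' hnwy hnwy'] at h1
      exact hxy (r.trans (r.symm hw) h1)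
    obtain ⟨h, hh, h', hh', he⟩ := double_coset h2 α hn₂ hn₁
    -- `t₁ = h t₂ h'`; the point `w` has exactly one bad partner under `t₁`
    have huniq : ∀ u, r u w → ¬ r (ψ t₁ u) (ψ t₁ w) → u = x' := by
      intro u hu hbad
      by_contra hne
      apply hbad
      rw [ht₁, c3_other hwx hwx' hnwy]
      by_cases hux : u = x
      · rw [hux, c3_a hx'x.symm nx'y]
        exact r.symm (r.trans hw hxx')
      · have nuy : u ≠ y := fun h => hxy (r.trans (r.symm (r.trans hu hw)) (by rw [h]))
        rw [c3_other hux hne nuy]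
        exact hu
    -- every point has two bad partners under `t₂`
    have hbad : ∀ u, ∃ v₁ v₂, v₁ ≠ v₂ ∧ r v₁ u ∧ r v₂ u ∧ ¬ r (ψ t₂ v₁) (ψ t₂ u) ∧ ¬ r (ψ t₂ v₂) (ψ t₂ u) := by
      intro u
      rcases hz' u with hux | huy
      · by_cases h3 : u = x
        · refine ⟨w, w', hww, h3 ▸ hw, h3 ▸ hw', ?_, ?_⟩
          · rw [h3, e_x, e_o w hwx hwx' hnwy hnwy']
            exact fun h => hxy (r.trans (r.symm hw) h)
          · rw [h3, e_x, e_o w' hw'x hw'x' hnw'y hnw'y']
            exact fun h => hxy (r.trans (r.symm hw') h)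
        · by_cases h4 : u = x'
          · refine ⟨w, w', hww, h4 ▸ r.trans hw hxx', h4 ▸ r.trans hw' hxx', ?_, ?_⟩
            · rw [h4, e_x', e_o w hwx hwx' hnwy hnwy']
              exact fun h => hxy (r.trans (r.symm hw) (r.trans h (r.symm hyy')))
            · rw [h4, e_x', e_o w' hw'x hw'x' hnw'y hnw'y']
              exact fun h => hxy (r.trans (r.symm hw') (r.trans h (r.symm hyy')))
          · have h5 : ψ t₂ u = u := e_o u h3 h4 (fun h => hxy (h ▸ r.symm hux))
              (fun h => hxy (r.trans (r.symm hux) (h ▸ r.symm hyy')))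
            refine ⟨x, x', hx'x.symm, r.symm hux, r.symm (r.trans hux hxx'), ?_, ?_⟩
            · rw [h5, e_x]
              exact fun h => hxy (r.symm (r.trans h hux))
            · rw [h5, e_x']
              exact fun h => hxy (r.symm (r.trans hyy' (r.trans h hux)))
      · by_cases h3 : u = y
        · refine ⟨v, v', hvv, h3 ▸ hv, h3 ▸ hv', ?_, ?_⟩
          · rw [h3, e_y, e_o v hnvx hnvx' hvy hvy']
            exact fun h => hxy (r.trans (r.symm h) hv)
          · rw [h3, e_y, e_o v' hnv'x hnv'x' hv'y hv'y']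
            exact fun h => hxy (r.trans (r.symm h) hv')
        · by_cases h4 : u = y'
          · refine ⟨v, v', hvv, h4 ▸ r.trans hv hyy', h4 ▸ r.trans hv' hyy', ?_, ?_⟩
            · rw [h4, e_y', e_o v hnvx hnvx' hvy hvy']
              exact fun h => hxy (r.trans hxx' (r.trans (r.symm h) hv))
            · rw [h4, e_y', e_o v' hnv'x hnv'x' hv'y hv'y']
              exact fun h => hxy (r.trans hxx' (r.trans (r.symm h) hv'))
          · have h5 : ψ t₂ u = u := e_o u (fun h => hxy (h ▸ huy)) (fun h => hxy (r.trans hxx' (h ▸ huy))) h3 h4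
            refine ⟨y, y', hy'y.symm, r.symm huy, r.symm (r.trans huy hyy'), ?_, ?_⟩
            · rw [h5, e_y]
              exact fun h => hxy (r.trans h huy)
            · rw [h5, e_y']
              exact fun h => hxy (r.trans hxx' (r.trans h huy))
    obtain ⟨v₁, v₂, hne, hv1, hv2, hb1, hb2⟩ := hbad (ψ h' w)
    have key : ∀ v, r v (ψ h' w) → ¬ r (ψ t₂ v) (ψ t₂ (ψ h' w)) → (ψ h').symm v = x' := by
      intro u hu hub
      apply huniq
      · rw [hinv h' hh', Equiv.apply_symm_apply]; exact hu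
      · rw [he, map_mul, map_mul, Perm.mul_apply, Perm.mul_apply, Perm.mul_apply, Perm.mul_apply, ← hinv h hh,
          Equiv.apply_symm_apply]
        exact hub
    exact hne ((ψ h').symm.injective ((key v₁ hv1 hb1).trans (key v₂ hv2 hb2).symm))

end Cfsg.Agent.H202.TwoTransAlt
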