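import Mathlib
import Cfsg.Agent.H202.TwoTransAltB
import Cfsg.Agent.H427.Bochert
import Cfsg.Agent.S0713

/-!
# HUB H1, P10: 2-transitive groups with alternating socle, part C: primitive stabilizers, numbers (helper202)
-/

set_option autoImplicit false
set_option linter.unusedSectionVars false
set_option linter.style.haveILetI false

namespace Cfsg.Agent.H202.TwoTransAlt

open MulAction Equiv Cfsg.Agent.H384.TwoTrans

/-! ## numbers -/

theorem six_cube_lt (k : ℕ) (hk : 7 ≤ k) : 6 * k ^ 3 < k.factorial := by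
  induction k, hk using Nat.le_induction with
  | base => decide
  | succ k hk ih =>
    rw [Nat.factorial_succ]
    have h1 : (k + 1) ^ 2 ≤ k ^ 3 := by nlinarith
    nlinarith

/-- for large `m` the bounds of Bochert and of the 3-cycles contradict each other. -/
theorem large (m n : ℕ) (hm : 13 ≤ m) (hb : ((m + 1) / 2).factorial ≤ 2 * n) (hn : n ≤ 2 * m.choose 3 + 1) : False := by
  set k := (m + 1) / 2 with hk
  have hk7 : 7 ≤ k := by omega
  have hmk : m ≤ 2 * k := by omega
  have h1 := six_cube_lt k hk7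
  have h2 : 6 * m.choose 3 ≤ m ^ 3 := by
    have h3 := Nat.descFactorial_le_pow m 3
    rw [Nat.descFactorial_eq_factorial_mul_choose] at h3
    exact h3
  have h3 : m ^ 3 ≤ (2 * k) ^ 3 := Nat.pow_le_pow_left hmk 3
  have h4 : (2 * k) ^ 3 = 8 * k ^ 3 := by ring
  have h5 : 1 ≤ k ^ 3 := Nat.one_le_pow _ _ (by omega)
  omega

/-! ## first properties -/

section

variable {G : Type*} {Ω : Type*} [Group G] [MulAction G Ω] {T : Subgroup G}

theorem pret_T [T.Normal] (hs : IsSimpleGroup T) (hf : FaithfulSMul G Ω) (h2 : IsMultiplyPretransitive G Ω 2) :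
    IsPretransitive T Ω := by
  have h3 : IsPreprimitive G Ω := isPreprimitive_of_is_two_pretransitive h2
  have h4 : IsQuasiPreprimitive G Ω := IsPreprimitive.isQuasiPreprimitive
  apply h4.isPretransitive_of_normal
  intro h
  have hnt : Nontrivial T := hs.toNontrivial
  obtain ⟨t, ht⟩ := exists_ne (1 : T)
  apply ht
  apply Subtype.ext
  apply hf.eq_of_smul_eq_smul (α := Ω)
  intro x
  have : x ∈ fixedPoints T Ω := by rw [h]; trivial
  rw [mem_fixedPoints] at this
  rw [Subgroup.coe_one, one_smul]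
  exact this t

theorem card_dvd_T [Finite G] (hp : IsPretransitive T Ω) (α : Ω) : Nat.card Ω ∣ Nat.card T := by
  rw [← index_stabilizer_of_transitive T α]
  exact Subgroup.index_dvd_card _

theorem T_not_le [T.Normal] (hp : IsPretransitive T Ω) (hs : IsSimpleGroup T) (hf : FaithfulSMul G Ω) (α : Ω)
    (hle : T ≤ stabilizer G α) : False := by
  have hnt : Nontrivial T := hs.toNontrivial
  obtain ⟨t, ht⟩ := exists_ne (1 : T)
  apply ht
  apply Subtype.ext
  apply hf.eq_of_smul_eq_smul (α := Ω)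
  intro x
  rw [Subgroup.coe_one, one_smul]
  obtain ⟨s, hs⟩ := hp.exists_smul_eq α x
  have h1 : ((s : G)) • α = α := hle s.2
  have h2 : x = α := by rw [← hs]; exact h1
  rw [h2]
  exact hle t.2

theorem card_le_factorial [Finite Ω] [Finite G] (hf : FaithfulSMul G Ω) : Nat.card G ≤ (Nat.card Ω).factorial := by
  have : Fintype Ω := Fintype.ofFinite Ω
  rw [← Nat.card_perm]
  exact Nat.card_le_card_of_injective (toPermHom G Ω) toPerm_injective

end

section

variable {G : Type*} {Ω : Type*} [Group G] [MulAction G Ω] {T : Subgroup G} {m : ℕ} {ψ : G →* Perm (Fin m)}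

theorem Emb.card_T [Finite G] (hm : 5 ≤ m) (E : Emb T m ψ) : 2 * Nat.card T = m.factorial := by
  haveI : Nontrivial (Fin m) := Fin.nontrivial_iff_two_le.2 (by omega)
  rw [← Subgroup.card_map_of_injective (f := ψ) (K := T) E.inj, E.map, two_mul_nat_card_alternatingGroup,
    Nat.card_perm, Nat.card_eq_fintype_card, Fintype.card_fin]

theorem Emb.card_G_dvd [Finite G] (E : Emb T m ψ) : Nat.card G ∣ m.factorial := by
  have h1 := Subgroup.card_dvd_of_injective ψ E.inj
  rwa [Nat.card_perm, Nat.card_fin] at h1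

theorem card_threeCycles (hm : 5 ≤ m) : Nat.card {g : Perm (Fin m) | g.IsThreeCycle} = 2 * m.choose 3 := by
  classical
  have h1 := Equiv.Perm.card_of_cycleType_singleton (α := Fin m) (n := 3) (by norm_num)
    (by rw [Fintype.card_fin]; omega)
  rw [Fintype.card_fin] at h1
  have h2 : (3 - 1).factorial = 2 := by decide
  rw [h2] at h1
  rw [← h1, Nat.card_eq_fintype_card, ← Set.toFinset_card]
  congr 1
  ext g
  rw [Set.mem_toFinset, Set.mem_ofPred_eq, Finset.mem_filter]
  exact ⟨fun h => ⟨Finset.mem_univ _, h⟩, fun h => h.2⟩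

/-- the numerical information in the primitive case -/
theorem prim_info [Finite G] [Finite Ω] [T.Normal] (hm : 5 ≤ m) (E : Emb T m ψ) (hs : IsSimpleGroup T)
    (hf : FaithfulSMul G Ω) (h2 : IsMultiplyPretransitive G Ω 2) (α : Ω)
    (hK : IsPreprimitive ((stabilizer G α).map ψ) (Fin m)) :
    ¬ alternatingGroup (Fin m) ≤ (stabilizer G α).map ψ ∧ Nat.card Ω - 1 ∣ 2 * m.choose 3 ∧
      ((m + 1) / 2).factorial ≤ 2 * Nat.card Ω := by
  classical
  haveI : IsPretransitive G Ω := isPretransitive_of_is_two_pretransitive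
  have hp := pret_T hs hf h2
  have hA : ¬ alternatingGroup (Fin m) ≤ (stabilizer G α).map ψ := by
    intro h
    rw [← E.map, Subgroup.map_le_map_iff_of_injective E.inj] at h
    exact T_not_le hp hs hf α h
  refine ⟨hA, ?_, ?_⟩
  · have h1 := dvd_of_fpf (G := G) h2 α {g : G | (ψ g).IsThreeCycle} (by
      intro g c hc
      rw [Set.mem_ofPred_eq, map_mul, map_mul, map_inv]
      have hc' : (ψ c).cycleType = {3} := hc
      change (ψ g * ψ c * (ψ g)⁻¹).cycleType = {3}
      rw [Perm.cycleType_conj, hc']) (by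
      intro c hc hcα
      exact hA (Equiv.Perm.alternatingGroup_le_of_isPreprimitive_of_isThreeCycle_mem hK hc ⟨c, hcα, rfl⟩))
    rwa [← card_threeCycles hm, ← Nat.card_congr (Equiv.ofBijective
      (fun g : {g : G | (ψ g).IsThreeCycle} => (⟨ψ g, g.2⟩ : {g : Perm (Fin m) | g.IsThreeCycle})) ⟨?_, ?_⟩)]
    · intro g g' h
      exact Subtype.ext (E.inj (congrArg Subtype.val h))
    · rintro ⟨σ, hσ⟩
      obtain ⟨t, -, ht⟩ := E.exists_of_mem (Equiv.Perm.IsThreeCycle.mem_alternatingGroup hσ)
      exact ⟨⟨t, by rw [Set.mem_ofPred_eq, ht]; exact hσ⟩, Subtype.ext ht⟩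
  · have h1 := Cfsg.Agent.H427.bochert ((stabilizer G α).map ψ) hK hA
    rw [Fintype.card_fin, Subgroup.card_map_of_injective E.inj] at h1
    have h3 : Nat.card (stabilizer G α) * Nat.card Ω = Nat.card G := by
      rw [← index_stabilizer_of_transitive G α, Subgroup.card_mul_index]
    have h4 := E.card_T hm
    have h5 : Nat.card T ≤ Nat.card G := Subgroup.card_le_card_group T
    have h6 : 0 < Nat.card (stabilizer G α) := Nat.card_pos
    have h7 : Nat.card (stabilizer G α) * ((m + 1) / 2).factorial ≤ Nat.card (stabilizer G α) * (2 * Nat.card Ω) := by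
      calc Nat.card (stabilizer G α) * ((m + 1) / 2).factorial ≤ m.factorial := h1
        _ ≤ 2 * Nat.card G := by omega
        _ = _ := by rw [← h3]; ring
    exact Nat.le_of_mul_le_mul_left h7 h6

/-- a permutation of prime order `p`, `n < 2 p`, is a cycle -/
theorem cycle_of_order {X : Type*} [Fintype X] [DecidableEq X] {p : ℕ} (hp : p.Prime) (hX : Fintype.card X < 2 * p)
    {σ : Perm X} (hσ : orderOf σ = p) : σ.IsCycle ∧ σ.support.card = p := by
  have h1 : σ.IsCycle := by
    apply Equiv.Perm.isCycle_of_prime_order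
    · rw [hσ]; exact hp
    · rw [hσ]; exact lt_of_le_of_lt (Finset.card_le_univ _) hX
  exact ⟨h1, by rw [← h1.orderOf, hσ]⟩

/-- a primitive group of degree `n`, `p + 3 ≤ n < 2 p`, with order divisible by `p`, contains the alternating group. -/
theorem alt_le_of_dvd {X : Type*} [Fintype X] [DecidableEq X] {p : ℕ} (hp : p.Prime) (hX : Fintype.card X < 2 * p)
    (hX5 : 5 ≤ Fintype.card X) (hX3 : p + 3 ≤ Fintype.card X) (K : Subgroup (Perm X)) (hK : IsPreprimitive K X)
    (hd : p ∣ Nat.card K) : alternatingGroup X ≤ K := by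
  haveI : Fact p.Prime := ⟨hp⟩
  obtain ⟨x, hx⟩ := exists_prime_orderOf_dvd_card' p hd
  have h1 := cycle_of_order hp hX (σ := (x : Perm X)) (by rw [Subgroup.orderOf_coe, hx])
  exact S0713.result K hK hp hX5 hX3 h1.1 h1.2 x.2

/-- a subgroup of `S₇` of order dividing 140 is not divisible by 35 -/
theorem no_70 (K : Subgroup (Perm (Fin 7))) (h1 : Nat.card K ∣ 140) (h2 : 35 ∣ Nat.card K) : False := by
  haveI : Fact (Nat.Prime 7) := ⟨by norm_num⟩
  haveI : Fact (Nat.Prime 5) := ⟨by norm_num⟩
  obtain ⟨P⟩ : Nonempty (Sylow 7 K) := inferInstance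
  have h7 : 7 ∣ Nat.card K := Dvd.dvd.trans (by norm_num) h2
  have hPidx : Nat.card P * (P : Subgroup K).index = Nat.card K := Subgroup.card_mul_index _
  have h7P : 7 ∣ Nat.card P := P.dvd_card_of_dvd_card h7
  obtain ⟨j, hj⟩ := IsPGroup.iff_card.1 P.isPGroup'
  have hPd : Nat.card P ∣ 140 := Dvd.dvd.trans ⟨_, hPidx.symm⟩ h1
  have hj1 : Nat.card P = 7 := by
    have hj2 : j ≤ 1 := by
      by_contra hcon
      have h3 : 7 ^ 2 ∣ 7 ^ j := Nat.pow_dvd_pow 7 (by omega)
      rw [← hj] at h3
      have h4 := Dvd.dvd.trans h3 hPd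
      revert h4
      decide
    have hj3 : j ≠ 0 := by
      rintro rfl
      rw [pow_zero] at hj
      rw [hj] at h7P
      omega
    have : j = 1 := by omega
    rw [hj, this, pow_one]
  have hidx : (P : Subgroup K).index ∣ 20 := by
    have h3 : 7 * (P : Subgroup K).index ∣ 7 * 20 := by
      have h4 : 7 * (P : Subgroup K).index = Nat.card K := by rw [← hPidx, hj1]
      rw [h4]; exact h1
    exact Nat.dvd_of_mul_dvd_mul_left (by norm_num) h3
  have hs1 : Nat.card (Sylow 7 K) ∣ 20 := Dvd.dvd.trans P.card_dvd_index hidx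
  have hs2 := card_sylow_modEq_one 7 K
  have hs3 : Nat.card (Sylow 7 K) = 1 := by
    have h3 := Nat.le_of_dvd (by norm_num) hs1
    generalize Nat.card (Sylow 7 K) = s at *
    unfold Nat.ModEq at hs2
    interval_cases s <;> first | rfl | (exfalso; revert hs1 hs2; decide)
  have hnorm : (P : Subgroup K).Normal := by
    have : Subsingleton (Sylow 7 K) := (Nat.card_eq_one_iff_unique.1 hs3).1
    exact Sylow.normal_of_subsingleton P
  obtain ⟨c, hc⟩ := exists_prime_orderOf_dvd_card' 7 h7P
  obtain ⟨x, hx⟩ := exists_prime_orderOf_dvd_card' (G := K) 5 (Dvd.dvd.trans (by norm_num) h2)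
  -- `x` commutes with `c`
  have hgen : ∀ z : P, z ∈ Subgroup.zpowers c := fun z => mem_zpowers_of_prime_card hj1 (by
    intro h; rw [h, orderOf_one] at hc; omega)
  let f : K →* MulAut P := MulAut.conjNormal
  obtain ⟨k, hk⟩ : ∃ k : ℕ, f x c = c ^ k := by
    obtain ⟨k, hk⟩ := mem_powers_iff_mem_zpowers.2 (hgen (f x c))
    exact ⟨k, hk.symm⟩
  have hkj : ∀ j : ℕ, (f x ^ j) c = c ^ (k ^ j) := by
    intro j
    induction j with
    | zero => rw [pow_zero, pow_zero, pow_one]; rfl
    | succ j ih =>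
      rw [pow_succ', MulAut.mul_apply, ih, map_pow, hk, ← pow_mul, pow_succ']
  have h5 : c ^ (k ^ 5) = c := by
    rw [← hkj 5, ← map_pow]
    have h11 := pow_orderOf_eq_one x
    rw [hx] at h11
    rw [h11, map_one]; rfl
  have h6 : k ^ 5 ≡ 1 [MOD 7] := by
    rw [← hc]
    apply pow_eq_pow_iff_modEq.1
    rw [h5, pow_one]
  have h8 : k ≡ 1 [MOD 7] := by
    have h9 : (k % 7) ^ 5 % 7 = 1 := by
      rw [← Nat.pow_mod]; exact h6
    have h10 : k % 7 < 7 := Nat.mod_lt _ (by norm_num)
    change k % 7 = 1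
    generalize k % 7 = t at *
    interval_cases t <;> first | rfl | (exfalso; revert h9; decide)
  have hcomm : x * (c : K) = (c : K) * x := by
    have h9 : f x c = c := by
      rw [hk]
      have h11 : c ^ k = c ^ 1 := pow_eq_pow_iff_modEq.2 (by rw [hc]; exact h8)
      rw [h11, pow_one]
    have h10 := congrArg Subtype.val h9
    change x * (c : K) * x⁻¹ = c at h10
    rw [mul_inv_eq_iff_eq_mul] at h10
    exact h10
  -- the seven-cycle
  have hcc := cycle_of_order (p := 7) (X := Fin 7) (by norm_num) (by rw [Fintype.card_fin]; norm_num)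
    (σ := ((c : K) : Perm (Fin 7))) (by rw [Subgroup.orderOf_coe, Subgroup.orderOf_coe, hc])
  have hsupp : (((c : K) : Perm (Fin 7))).support = Finset.univ := by
    rw [← Finset.card_eq_iff_eq_univ, hcc.2, Fintype.card_fin]
  have hcomm' : (x : Perm (Fin 7)) * ((c : K) : Perm (Fin 7)) = ((c : K) : Perm (Fin 7)) * (x : Perm (Fin 7)) := by
    have := congrArg (Subtype.val : K → Perm (Fin 7)) hcomm
    exact this
  have hmv : ∀ i : Fin 7, ((c : K) : Perm (Fin 7)) i ≠ i := fun i => by
    rw [← Perm.mem_support, hsupp]; exact Finset.mem_univ _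
  obtain ⟨l, hl⟩ := hcc.1.exists_zpow_eq (hmv 0) (hmv ((x : Perm (Fin 7)) 0))
  have hxeq : (x : Perm (Fin 7)) = ((c : K) : Perm (Fin 7)) ^ l := by
    ext i
    obtain ⟨j, hj⟩ := hcc.1.exists_zpow_eq (hmv 0) (hmv i)
    rw [← hj]
    have hcz : (x : Perm (Fin 7)) * ((c : K) : Perm (Fin 7)) ^ j = ((c : K) : Perm (Fin 7)) ^ j * (x : Perm (Fin 7)) :=
      (Commute.zpow_right hcomm' j)
    rw [← Perm.mul_apply, hcz, Perm.mul_apply, ← hl, ← Perm.mul_apply, ← Perm.mul_apply, ← zpow_add, ← zpow_add,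
      add_comm]
  have hx7 : (x : Perm (Fin 7)) ^ 7 = 1 := by
    have hc7 : ((c : K) : Perm (Fin 7)) ^ 7 = 1 := by
      rw [← Subgroup.coe_pow, ← Subgroup.coe_pow]
      have h11 := pow_orderOf_eq_one c
      rw [hc] at h11
      rw [h11]; rfl
    rw [hxeq, ← zpow_natCast, ← zpow_mul, mul_comm, zpow_mul, zpow_natCast, hc7, one_zpow]
  have hx7' : x ^ 7 = 1 := by
    apply Subtype.ext
    rw [Subgroup.coe_pow, hx7]; rfl
  have := orderOf_dvd_of_pow_eq_one hx7'
  rw [hx] at this
  revert this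
  decide

end

end Cfsg.Agent.H202.TwoTransAlt
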