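import Mathlib
import Cfsg.Agent.H202.PsuCent
import Cfsg.Agent.H999.PslGraphClasses

/-!
# `PSU_n(q)`: the centralizer of an involutory automorphism `f₁ A * f₂ τ`, `τ` the `q`-th power map (helper202)

`M ∈ GL_n(F)` with `A * τ(M) = κ M` and `Mᵀ τ(M) = ι j(S₀)`, `S₀` a matrix over the field `F₀` of `q` elements:
the centralizer in `Inndiag` is the projective similarity group of the bilinear form `S₀`.
-/

set_option autoImplicit false
set_option linter.unusedSectionVars false
set_option linter.style.haveILetI false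

namespace Cfsg.Agent.H202.PsuSim

open Cfsg Matrix Cfsg.Agent.LieClassical.HermBasic Cfsg.Agent.LieClassical.HermSiegel
  Cfsg.Agent.ClassicalGeometry.PSUAutCount Cfsg.Agent.Schreier.PSU Cfsg.Agent.H202.Split Cfsg.Agent.H202.Psu
  Cfsg.Agent.H202.Iso Cfsg.Agent.H202.PsuCent Cfsg.Agent.H999.PslGraph Cfsg.Agent.H999.PslGraphOdd
  Cfsg.Agent.H999.PslGraphClasses
open scoped MatrixGroups

variable {F : Type*} [Field F] [Fintype F] {q n : ℕ} {F₀ : Type*} [Field F₀]

theorem map_coe_inv {K : Type*} [Field K] (τ : F ≃+* K) (M : GL (Fin n) F) :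
    ((M⁻¹ : GL (Fin n) F) : Matrix (Fin n) (Fin n) F).map τ * (M : Matrix (Fin n) (Fin n) F).map τ = 1 := by
  rw [← Matrix.map_mul, ← Units.val_mul, inv_mul_cancel, Units.val_one, Matrix.map_one τ (map_zero τ) (map_one τ)]

theorem map_coe_inv' {K : Type*} [Field K] (τ : F ≃+* K) (M : GL (Fin n) F) :
    (M : Matrix (Fin n) (Fin n) F).map τ * ((M⁻¹ : GL (Fin n) F) : Matrix (Fin n) (Fin n) F).map τ = 1 := by
  rw [← Matrix.map_mul, ← Units.val_mul, mul_inv_cancel, Units.val_one, Matrix.map_one τ (map_zero τ) (map_one τ)]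

theorem smul_map {τ : F ≃+* F} (c : F) (M : Matrix (Fin n) (Fin n) F) : (c • M).map τ = τ c • M.map τ := by
  ext i k
  rw [Matrix.map_apply, Matrix.smul_apply, Matrix.smul_apply, smul_eq_mul, smul_eq_mul, map_mul, Matrix.map_apply]

theorem smul_map' {j : F₀ →+* F} (c : F₀) (M : Matrix (Fin n) (Fin n) F₀) : (c • M).map j = j c • M.map j := by
  ext i k
  rw [Matrix.map_apply, Matrix.smul_apply, Matrix.smul_apply, smul_eq_mul, smul_eq_mul, map_mul, Matrix.map_apply]

/-- The unitary condition for `B` with `B * M = M * X`. -/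
theorem unitary_iff {τ : F ≃+* F} (hτ : ∀ x, τ x = x ^ q) (B M X : GL (Fin n) F) (hX : B * M = M * X) :
    B ∈ GU n F q ↔ (X : Matrix (Fin n) (Fin n) F)ᵀ * ((M : Matrix (Fin n) (Fin n) F)ᵀ *
      (M : Matrix (Fin n) (Fin n) F).map τ) * (X : Matrix (Fin n) (Fin n) F).map τ =
      (M : Matrix (Fin n) (Fin n) F)ᵀ * (M : Matrix (Fin n) (Fin n) F).map τ := by
  have h1 : (X : Matrix (Fin n) (Fin n) F)ᵀ * ((M : Matrix (Fin n) (Fin n) F)ᵀ *
      (M : Matrix (Fin n) (Fin n) F).map τ) * (X : Matrix (Fin n) (Fin n) F).map τ =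
      (M : Matrix (Fin n) (Fin n) F)ᵀ * ((B : Matrix (Fin n) (Fin n) F)ᵀ *
        (B : Matrix (Fin n) (Fin n) F).map τ) * (M : Matrix (Fin n) (Fin n) F).map τ := by
    have h2 : ((M * X : GL (Fin n) F) : Matrix (Fin n) (Fin n) F)ᵀ *
        ((M * X : GL (Fin n) F) : Matrix (Fin n) (Fin n) F).map τ =
        ((B * M : GL (Fin n) F) : Matrix (Fin n) (Fin n) F)ᵀ *
        ((B * M : GL (Fin n) F) : Matrix (Fin n) (Fin n) F).map τ := by rw [hX]
    rw [Units.val_mul, Units.val_mul, Matrix.transpose_mul, Matrix.transpose_mul, Matrix.map_mul, Matrix.map_mul] at h2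
    simp only [Matrix.mul_assoc] at h2 ⊢
    exact h2
  rw [mem_GU_mat hτ, h1]
  constructor
  · intro h
    rw [h, Matrix.mul_one]
  · intro h
    have h3 : (M : Matrix (Fin n) (Fin n) F)ᵀ * ((B : Matrix (Fin n) (Fin n) F)ᵀ *
        (B : Matrix (Fin n) (Fin n) F).map τ) = (M : Matrix (Fin n) (Fin n) F)ᵀ := by
      have := congrArg (fun Y => Y * ((M⁻¹ : GL (Fin n) F) : Matrix (Fin n) (Fin n) F).map τ) h
      simp only [Matrix.mul_assoc, map_coe_inv', Matrix.mul_one] at this
      exact this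
    have h4 : ((M⁻¹ : GL (Fin n) F) : Matrix (Fin n) (Fin n) F)ᵀ * (M : Matrix (Fin n) (Fin n) F)ᵀ = 1 := by
      rw [← Matrix.transpose_mul, ← Units.val_mul, mul_inv_cancel, Units.val_one, Matrix.transpose_one]
    have := congrArg (fun Y => ((M⁻¹ : GL (Fin n) F) : Matrix (Fin n) (Fin n) F)ᵀ * Y) h3
    simp only [← Matrix.mul_assoc, h4, Matrix.one_mul] at this
    exact this

/-- The commuting condition. -/
theorem comm_iff {τ : F ≃+* F} {κ : F} (hκ : κ ≠ 0) (A B M X : GL (Fin n) F) (hX : B * M = M * X)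
    (hM : (A : Matrix (Fin n) (Fin n) F) * (M : Matrix (Fin n) (Fin n) F).map τ = κ • (M : Matrix (Fin n) (Fin n) F))
    (c : F) :
    (B : Matrix (Fin n) (Fin n) F) * (A : Matrix (Fin n) (Fin n) F) =
      c • ((A : Matrix (Fin n) (Fin n) F) * (B : Matrix (Fin n) (Fin n) F).map τ) ↔
    (X : Matrix (Fin n) (Fin n) F) = c • (X : Matrix (Fin n) (Fin n) F).map τ := by
  have hX' : (B : Matrix (Fin n) (Fin n) F) * (M : Matrix (Fin n) (Fin n) F) =
      (M : Matrix (Fin n) (Fin n) F) * (X : Matrix (Fin n) (Fin n) F) := by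
    rw [← Units.val_mul, hX, Units.val_mul]
  have h1 : (B : Matrix (Fin n) (Fin n) F) * (A : Matrix (Fin n) (Fin n) F) *
      (M : Matrix (Fin n) (Fin n) F).map τ = κ • ((M : Matrix (Fin n) (Fin n) F) * (X : Matrix (Fin n) (Fin n) F)) := by
    rw [Matrix.mul_assoc, hM, Matrix.mul_smul, hX']
  have h2 : (A : Matrix (Fin n) (Fin n) F) * (B : Matrix (Fin n) (Fin n) F).map τ *
      (M : Matrix (Fin n) (Fin n) F).map τ =
      κ • ((M : Matrix (Fin n) (Fin n) F) * (X : Matrix (Fin n) (Fin n) F).map τ) := by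
    rw [Matrix.mul_assoc, ← Matrix.map_mul, hX', Matrix.map_mul, ← Matrix.mul_assoc, hM, Matrix.smul_mul]
  constructor
  · intro h
    rw [h, Matrix.smul_mul, h2, smul_smul, mul_comm c κ, ← smul_smul, ← Matrix.mul_smul] at h1
    have h3 := smul_right_injective _ hκ h1
    have h4 := congrArg (fun Y => ((M⁻¹ : GL (Fin n) F) : Matrix (Fin n) (Fin n) F) * Y) h3
    simp only [← Matrix.mul_assoc, ← Units.val_mul, Matrix.mul_smul] at h4
    rw [inv_mul_cancel, Units.val_one, Matrix.one_mul, inv_mul_cancel_left] at h4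
    exact h4.symm
  · intro h
    have h5 : (B : Matrix (Fin n) (Fin n) F) * (A : Matrix (Fin n) (Fin n) F) *
        (M : Matrix (Fin n) (Fin n) F).map τ = c • ((A : Matrix (Fin n) (Fin n) F) *
        (B : Matrix (Fin n) (Fin n) F).map τ) * (M : Matrix (Fin n) (Fin n) F).map τ := by
      rw [h1, Matrix.smul_mul, h2, smul_smul, mul_comm c κ, ← smul_smul]
      congr 1
      rw [← Matrix.mul_smul, ← h]
    have h6 := congrArg (fun Y => Y * ((M⁻¹ : GL (Fin n) F) : Matrix (Fin n) (Fin n) F).map τ) h5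
    simp only [Matrix.mul_assoc, map_coe_inv', Matrix.mul_one, Matrix.smul_mul] at h6
    exact h6

theorem gm_eq (B : GU n F q) : gm B = ((B : GL (Fin n) F) : Matrix (Fin n) (Fin n) F) := rfl

/-- **The centralizer of `f₁ A * f₂ τ`.** -/
theorem cent_equiv_sim (hF : Fintype.card F = q ^ 2) (hn : 3 ≤ n) {τ : F ≃+* F} (hτ : ∀ x, τ x = x ^ q)
    {j : F₀ →+* F} (hj : ∀ a, τ a = a ↔ ∃ b, j b = a) (A : GU n F q) (M : GL (Fin n) F) {κ ι : F}
    (hκ : κ ≠ 0) (hι : ι ≠ 0) (hM : gm A * (M : Matrix (Fin n) (Fin n) F).map τ = κ • (M : Matrix (Fin n) (Fin n) F))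
    (S₀ : Matrix (Fin n) (Fin n) F₀)
    (hG : (M : Matrix (Fin n) (Fin n) F)ᵀ * (M : Matrix (Fin n) (Fin n) F).map τ = ι • S₀.map j) :
    Nonempty (↥(inndiagPSU n F q ⊓ Subgroup.centralizer {(f₁ A * f₂ τ : MulAut (PSU n F q))}) ≃*
      projQuot (Geo.similarityGroup (bil S₀))) := by
  haveI : Nonempty (Fin n) := ⟨⟨0, by omega⟩⟩
  have hττ : ∀ x, τ (τ x) = x := fun x => by
    rw [hτ, hτ, ← pow_mul, ← sq, ← hF, FiniteField.pow_card]
  have hjτ : ∀ b, τ (j b) = j b := fun b => (hj _).2 ⟨b, rfl⟩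
  have hjm : ∀ N : Matrix (Fin n) (Fin n) F₀, (N.map j).map τ = N.map j := fun N => by
    ext i k
    exact hjτ _
  let φ : ↥(Geo.similarityGroup (bil S₀)) →* GL (Fin n) F ⧸ Geo.scalars (Fin n) F :=
    (toPGL (Fin n) F).comp ((MulAut.conj M).toMonoidHom.comp
      ((Matrix.GeneralLinearGroup.map j).comp (Geo.similarityGroup (bil S₀)).subtype))
  have hφ : ∀ g : ↥(Geo.similarityGroup (bil S₀)), φ g =
      toPGL (Fin n) F (M * Matrix.GeneralLinearGroup.map j (g : GL (Fin n) F₀) * M⁻¹) := fun g => rfl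
  have hkφ : φ.ker = (Geo.scalars (Fin n) F₀).subgroupOf (Geo.similarityGroup (bil S₀)) := ker_conj_map _ j M
  -- the scaled Gram condition
  have hgram : ∀ (e : Fˣ) (P : GL (Fin n) F₀) (X : GL (Fin n) F),
      (P : Matrix (Fin n) (Fin n) F₀).map j = (e : F) • (X : Matrix (Fin n) (Fin n) F) →
      ((X : Matrix (Fin n) (Fin n) F)ᵀ * (ι • S₀.map j) * (X : Matrix (Fin n) (Fin n) F).map τ = ι • S₀.map j ↔
        ((P : Matrix (Fin n) (Fin n) F₀)ᵀ * S₀ * P).map j = ((e : F) * τ e) • S₀.map j) := by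
    intro e P X hP
    have h1 : ((P : Matrix (Fin n) (Fin n) F₀)ᵀ * S₀ * P).map j = ((e : F) * τ e) •
        ((X : Matrix (Fin n) (Fin n) F)ᵀ * S₀.map j * (X : Matrix (Fin n) (Fin n) F).map τ) := by
      rw [Matrix.map_mul, Matrix.map_mul, Matrix.transpose_map]
      conv_lhs => rw [← hjm (P : Matrix (Fin n) (Fin n) F₀)]
      rw [hjm, hP]
      conv_lhs => arg 2; rw [← hP, ← hjm, hP, smul_map]
      rw [Matrix.transpose_smul, Matrix.smul_mul, Matrix.smul_mul, Matrix.mul_smul, smul_smul]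
    rw [h1]
    have he0 : (e : F) * τ e ≠ 0 := mul_ne_zero e.ne_zero (by rw [Ne, map_eq_zero]; exact e.ne_zero)
    rw [(smul_right_injective _ he0).eq_iff, Matrix.mul_smul, Matrix.smul_mul, (smul_right_injective _ hι).eq_iff]
  have key := iso_of_common φ (toP n F q) f₁ (ker_f₁ hF hn)
    (inndiagPSU n F q ⊓ Subgroup.centralizer {(f₁ A * f₂ τ : MulAut (PSU n F q))})
    (by rw [← Psu.inndiag_eq]; exact inf_le_left)
    (by
      rintro _ ⟨g, rfl⟩
      obtain ⟨ν, hν0, hν⟩ := mem_similarity_iff.1 g.2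
      obtain ⟨e, he⟩ := exists_norm_eq hF (c := j ν) (by rw [← hτ, hjτ])
      have he0 : e ≠ 0 := by
        rintro rfl
        rw [zero_mul] at he
        exact hν0 (j.injective (he.symm.trans (map_zero j).symm))
      obtain ⟨X, hX⟩ : ∃ X : GL (Fin n) F, X = Descent.scg (Units.mk0 e he0)⁻¹ *
        Matrix.GeneralLinearGroup.map j (g : GL (Fin n) F₀) := ⟨_, rfl⟩
      have hP : ((g : GL (Fin n) F₀) : Matrix (Fin n) (Fin n) F₀).map j =
          ((Units.mk0 e he0 : Fˣ) : F) • (X : Matrix (Fin n) (Fin n) F) := by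
        rw [hX, Descent.coe_scg_mul, smul_smul, Units.mul_inv, one_smul]
        rfl
      have hB : M * X * M⁻¹ ∈ GU n F q := by
        rw [unitary_iff hτ (M * X * M⁻¹) M X (by group), hG, hgram _ _ _ hP, hν, smul_map', Units.val_mk0, hτ, he]
      refine ⟨⟨_, hB⟩, ?_⟩
      rw [hφ, toP_apply, eq_comm, toPGL_eq_iff]
      refine ⟨(Units.mk0 e he0)⁻¹, ?_⟩
      change ((M * X * M⁻¹ : GL (Fin n) F) : Matrix (Fin n) (Fin n) F) = _
      rw [hX, Units.val_mul, Units.val_mul, Descent.coe_scg_mul, Matrix.mul_smul,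
        Matrix.smul_mul, ← Units.val_mul, ← Units.val_mul])
    (by
      intro B
      rw [f₁_comm_iff hF hn]
      obtain ⟨X, hX⟩ : ∃ X : GL (Fin n) F, (B : GL (Fin n) F) * M = M * X := ⟨M⁻¹ * B * M, by group⟩
      have hB := (unitary_iff hτ (B : GL (Fin n) F) M X hX).1 B.2
      rw [hG] at hB
      have hcomm := comm_iff hκ (A : GL (Fin n) F) (B : GL (Fin n) F) M X hX hM
      have hBX : (B : GL (Fin n) F) = M * X * M⁻¹ := by rw [← hX]; group
      constructor
      · rintro ⟨c, hc⟩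
        have hc1 := (hcomm c).1 hc
        have hc0 : c ≠ 0 := by
          rintro rfl
          rw [zero_smul] at hc1
          have h1 : (X : Matrix (Fin n) (Fin n) F) * ((X⁻¹ : GL (Fin n) F) : Matrix (Fin n) (Fin n) F) = 1 := by
            rw [← Units.val_mul, mul_inv_cancel, Units.val_one]
          rw [hc1, zero_mul] at h1
          exact zero_ne_one h1
        have hc' : (X : Matrix (Fin n) (Fin n) F).map τ = c⁻¹ • (X : Matrix (Fin n) (Fin n) F) := by
          rw [eq_inv_smul_iff₀ hc0]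
          exact hc1.symm
        obtain ⟨e, he⟩ := Descent.exists_fixed_multiple hc'
        obtain ⟨P, hP⟩ := Descent.exists_descend_gl hj he
        have hPm : (P : Matrix (Fin n) (Fin n) F₀).map j = (e : F) • (X : Matrix (Fin n) (Fin n) F) := by
          have := congrArg Units.val hP
          rw [Descent.coe_scg_mul] at this
          exact this
        have h2 := (hgram e P X hPm).1 hB
        obtain ⟨ν, hν⟩ : ∃ ν : F₀, j ν = (e : F) * τ e := (hj _).1 (by rw [map_mul, hττ, mul_comm])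
        have hν0 : ν ≠ 0 := by
          rintro rfl
          rw [map_zero] at hν
          exact mul_ne_zero e.ne_zero (by rw [Ne, map_eq_zero]; exact e.ne_zero) hν.symm
        refine ⟨⟨P, mem_similarity_iff.2 ⟨ν, hν0, ?_⟩⟩, ?_⟩
        · apply Descent.map_injective j
          change ((P : Matrix (Fin n) (Fin n) F₀)ᵀ * S₀ * P).map j = (ν • S₀).map j
          rw [h2, smul_map', hν]
        · rw [hφ, toP_apply, eq_comm, toPGL_eq_iff]
          refine ⟨e, ?_⟩
          rw [hBX, Units.val_mul, Units.val_mul, Units.val_mul, Units.val_mul]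
          change _ * (P : Matrix (Fin n) (Fin n) F₀).map j * _ = _
          rw [hPm, Matrix.mul_smul, Matrix.smul_mul]
      · rintro ⟨P, hP⟩
        rw [hφ, toP_apply, toPGL_eq_iff] at hP
        obtain ⟨c, hc⟩ := hP
        refine ⟨(c : F) * (τ (c : F))⁻¹, (hcomm _).2 ?_⟩
        have h3 : (X : Matrix (Fin n) (Fin n) F) = (c : F) • ((P : GL (Fin n) F₀) : Matrix (Fin n) (Fin n) F₀).map j := by
          have h4 : X = M⁻¹ * B * M := by rw [mul_assoc, hX, inv_mul_cancel_left]
          rw [h4, Units.val_mul, Units.val_mul, hc, Matrix.mul_smul, Matrix.smul_mul, ← Units.val_mul, ← Units.val_mul]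
          congr 1
          have h5 : M⁻¹ * (M * Matrix.GeneralLinearGroup.map j (P : GL (Fin n) F₀) * M⁻¹) * M =
            Matrix.GeneralLinearGroup.map j (P : GL (Fin n) F₀) := by group
          rw [h5]
          rfl
        rw [h3, smul_map, hjm, smul_smul]
        congr 1
        have : τ (c : F) ≠ 0 := by rw [Ne, map_eq_zero]; exact c.ne_zero
        field_simp)
  obtain ⟨e⟩ := key
  exact ⟨e.trans (QuotientGroup.quotientMulEquivOfEq hkφ)⟩

end Cfsg.Agent.H202.PsuSim
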