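import Mathlib
import Cfsg.Agent.H202.TwoTransAltC
import Cfsg.Agent.LFourA.AltPsiAut
import Cfsg.Agent.S0253
import Cfsg.Agent.S0254
import Cfsg.Agent.S0256

/-!
# HUB H1, P10: 2-transitive groups with alternating socle, part D: assembly (helper202)
-/

set_option autoImplicit false
set_option linter.unusedSectionVars false
set_option linter.style.haveILetI false

namespace Cfsg.Agent.H202.TwoTransAlt

open MulAction Equiv Cfsg.Agent.H384.TwoTrans

universe u v

theorem num5 : ∀ n ≤ 21, n - 1 ∣ 20 → n ∣ 60 → 5 ≤ n → n = 5 ∨ n = 6 := by decide +kernel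
theorem num7 : ∀ n ≤ 71, n - 1 ∣ 70 → n ∣ 2520 → 24 ≤ 2 * n → n = 15 ∨ n = 36 := by decide +kernel
theorem num8 : ∀ n ≤ 113, n - 1 ∣ 112 → n ∣ 20160 → 24 ≤ 2 * n → n = 15 := by decide +kernel
theorem num9 : ∀ n ≤ 169, n - 1 ∣ 168 → n ∣ 181440 → 120 ≤ 2 * n → False := by decide +kernel
theorem num10 : ∀ n ≤ 241, n - 1 ∣ 240 → n ∣ 1814400 → 120 ≤ 2 * n → n = 81 := by decide +kernel
theorem num12 : ∀ n ≤ 441, n - 1 ∣ 440 → n ∣ 239500800 → 720 ≤ 2 * n → False := by decide +kernel
theorem num6 : ∀ n ≤ 360, n ∣ 360 → (n - 1) * n ∣ 1440 ∨ (n - 1) * n ∣ 1080 → 6 ≤ n → n = 6 ∨ n = 9 ∨ n = 10 := by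
  decide +kernel

theorem six_le {n : ℕ} (h : 360 ≤ n.factorial) : 6 ≤ n := by
  by_contra hcon
  have h1 : n ≤ 5 := by omega
  have h2 := Nat.factorial_le h1
  have h3 : Nat.factorial 5 = 120 := by decide
  omega

theorem five_le {n : ℕ} (h : 60 ≤ n.factorial) : 5 ≤ n := by
  by_contra hcon
  have h1 : n ≤ 4 := by omega
  have h2 := Nat.factorial_le h1
  have h3 : Nat.factorial 4 = 24 := by decide
  omega

/-- The primitive case. -/
theorem prim_case {G : Type u} {Ω : Type v} [Group G] [MulAction G Ω] {T : Subgroup G} (A : AS G Ω T) {m : ℕ}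
    (hm : 5 ≤ m) (h6 : m ≠ 6) (e : T ≃* alternatingGroup (Fin m)) {ψ : G →* Perm (Fin m)} (E : Emb T m ψ) (α : Ω)
    (hK : IsPreprimitive ((stabilizer G α).map ψ) (Fin m)) : Known2 T (Nat.card Ω) := by
  classical
  haveI := A.finG
  haveI := A.finΩ
  haveI := A.normal
  haveI := A.faithful
  haveI : IsPretransitive G Ω := isPretransitive_of_is_two_pretransitive (h2 := A.two)
  obtain ⟨hA, hd, hb⟩ := prim_info hm E A.simple A.faithful A.two α hK
  have hpT := pret_T A.simple A.faithful A.two
  have hn := card_dvd_T hpT α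
  have hT := E.card_T hm
  have hG := E.card_G_dvd
  have hTG : Nat.card T ∣ Nat.card G := Subgroup.card_subgroup_dvd_card T
  have hfac : Nat.card G ≤ (Nat.card Ω).factorial := card_le_factorial A.faithful
  have hst : Nat.card (stabilizer G α) * Nat.card Ω = Nat.card G := by
    rw [← index_stabilizer_of_transitive G α, Subgroup.card_mul_index]
  have hTle : Nat.card T ≤ Nat.card G := Subgroup.card_le_card_group T
  have hle : Nat.card Ω ≤ 2 * m.choose 3 + 1 := by
    have h1 : 0 < m.choose 3 := Nat.choose_pos (by omega)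
    have := Nat.le_of_dvd (by omega) hd
    omega
  have hmapcard : Nat.card ((stabilizer G α).map ψ) = Nat.card (stabilizer G α) :=
    Subgroup.card_map_of_injective E.inj
  by_cases h13 : 13 ≤ m
  · exact (large m _ h13 hb hle).elim
  interval_cases m
  · -- 5
    have hT' : Nat.card T = 60 := by
      have : Nat.factorial 5 = 120 := by decide
      omega
    rw [hT'] at hn hTle
    have h1 : Nat.choose 5 3 = 10 := by decide
    rw [h1] at hd hle
    rcases num5 _ hle hd hn (five_le (by omega)) with h2 | h2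
    · rw [h2]; exact Known2.alt 5 le_rfl ⟨e⟩
    · rw [h2]
      haveI : Fact (Nat.Prime 5) := ⟨by norm_num⟩
      obtain ⟨f⟩ := S0253.result (F := ZMod 5) (ZMod.card 5)
      refine Known2.psl (ZMod 5) 2 6 le_rfl (fun _ => by rw [ZMod.card]; norm_num) ⟨e.trans f.symm⟩ ?_
      rw [ZMod.card]; norm_num
  · exact absurd rfl h6
  · -- 7
    have hT' : Nat.card T = 2520 := by
      have : Nat.factorial 7 = 5040 := by decide
      omega
    rw [hT'] at hn hTle hTG
    have h1 : Nat.choose 7 3 = 35 := by decide
    have h4 : ((7 + 1) / 2).factorial = 24 := by decide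
    rw [h1] at hd hle
    rw [h4] at hb
    rcases num7 _ hle hd hn hb with h2 | h2
    · rw [h2]; exact Known2.a7 ⟨e⟩
    · exfalso
      rw [h2] at hst
      have h5 : Nat.factorial 7 = 36 * 140 := by decide
      apply no_70 ((stabilizer G α).map ψ)
      · rw [hmapcard]
        rw [h5, ← hst, mul_comm] at hG
        exact Nat.dvd_of_mul_dvd_mul_left (by norm_num) hG
      · rw [hmapcard]
        rw [← hst] at hTG
        have h6 : 36 * 70 ∣ 36 * Nat.card (stabilizer G α) := by
          rw [mul_comm 36 (Nat.card _)]; exact hTG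
        exact Dvd.dvd.trans (by norm_num) (Nat.dvd_of_mul_dvd_mul_left (by norm_num) h6)
  · -- 8
    have hT' : Nat.card T = 20160 := by
      have : Nat.factorial 8 = 40320 := by decide
      omega
    rw [hT'] at hn
    have h1 : Nat.choose 8 3 = 56 := by decide
    have h4 : ((8 + 1) / 2).factorial = 24 := by decide
    rw [h1] at hd hle
    rw [h4] at hb
    rw [num8 _ hle hd hn hb]
    haveI : Fact (Nat.Prime 2) := ⟨by norm_num⟩
    obtain ⟨f⟩ := S0256.result (F := ZMod 2) (ZMod.card 2)
    refine Known2.psl (ZMod 2) 4 15 (by norm_num) (fun h => by omega) ⟨e.trans f.symm⟩ ?_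
    rw [ZMod.card]; norm_num
  · -- 9
    exfalso
    have hT' : Nat.card T = 181440 := by
      have : Nat.factorial 9 = 362880 := by decide
      omega
    rw [hT'] at hn
    have h1 : Nat.choose 9 3 = 84 := by decide
    have h4 : ((9 + 1) / 2).factorial = 120 := by decide
    rw [h1] at hd hle
    rw [h4] at hb
    exact num9 _ hle hd hn hb
  · -- 10
    exfalso
    have hT' : Nat.card T = 1814400 := by
      have : Nat.factorial 10 = 3628800 := by decide
      omega
    rw [hT'] at hn hTG
    have h1 : Nat.choose 10 3 = 120 := by decide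
    have h4 : ((10 + 1) / 2).factorial = 120 := by decide
    rw [h1] at hd hle
    rw [h4] at hb
    have h2 := num10 _ hle hd hn hb
    rw [h2] at hst
    apply hA
    apply alt_le_of_dvd (p := 7) (by norm_num) (by rw [Fintype.card_fin]; norm_num)
      (by rw [Fintype.card_fin]; norm_num) (by rw [Fintype.card_fin]) _ hK
    rw [hmapcard]
    have h5 : 7 ∣ Nat.card (stabilizer G α) * 81 := by
      rw [hst]; exact Dvd.dvd.trans (by norm_num) hTG
    exact (Nat.Coprime.dvd_of_dvd_mul_right (by norm_num) h5)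
  · -- 11
    exfalso
    have h1 : Nat.choose 11 3 = 165 := by decide
    have h4 : ((11 + 1) / 2).factorial = 720 := by decide
    omega
  · -- 12
    exfalso
    have hT' : Nat.card T = 239500800 := by
      have : Nat.factorial 12 = 479001600 := by decide
      omega
    rw [hT'] at hn
    have h1 : Nat.choose 12 3 = 220 := by decide
    have h4 : ((12 + 1) / 2).factorial = 720 := by decide
    rw [h1] at hd hle
    rw [h4] at hb
    exact num12 _ hle hd hn hb

/-! ## degree 6 -/

open Cfsg.Agent.LFourA.AltPsiAut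

theorem card_mulAut_A6 : Nat.card (MulAut (alternatingGroup (Fin 6))) ≤ 1440 := by
  classical
  haveI : Finite (MulAut (alternatingGroup (Fin 6))) :=
    Finite.of_injective (fun σ => (σ : alternatingGroup (Fin 6) → alternatingGroup (Fin 6))) DFunLike.coe_injective
  have h1 : Nat.card NE ≤ 720 := by
    choose σ hσ using fun a : NE => exists_perm a.2
    have h2 : Function.Injective σ := by
      intro a b hab
      apply Subtype.ext
      refine MulEquiv.ext fun x => Subtype.ext ?_
      rw [hσ, hσ, hab]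
    have h3 := Nat.card_le_card_of_injective σ h2
    rw [Nat.card_perm, Nat.card_fin] at h3
    exact h3
  by_cases h : ∃ β : MulAut (alternatingGroup (Fin 6)), β ∉ NE
  · obtain ⟨β, hβ⟩ := h
    have hmem : ∀ a : MulAut (alternatingGroup (Fin 6)), a ∉ NE → β⁻¹ * a ∈ NE := fun a ha => inv_mul_mem hβ ha
    let f : MulAut (alternatingGroup (Fin 6)) → NE × Bool := fun a =>
      if ha : a ∈ NE then (⟨a, ha⟩, true) else (⟨β⁻¹ * a, hmem a ha⟩, false)
    have hf : Function.Injective f := by
      intro a b hab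
      by_cases ha : a ∈ NE <;> by_cases hb : b ∈ NE <;> simp [f, ha, hb] at hab <;> exact hab
    have h2 := Nat.card_le_card_of_injective f hf
    rw [Nat.card_prod, Nat.card_eq_fintype_card (α := Bool), Fintype.card_bool] at h2
    omega
  · push Not at h
    have h2 : Nat.card (MulAut (alternatingGroup (Fin 6))) ≤ Nat.card NE :=
      Nat.card_le_card_of_injective (fun a => (⟨a, h a⟩ : NE)) (fun a b hab => congrArg Subtype.val hab)
    omega

theorem card_G_six {G : Type*} [Group G] [Finite G] {T : Subgroup G} [T.Normal]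
    (hT : Subgroup.centralizer (T : Set G) = ⊥) (e : T ≃* alternatingGroup (Fin 6)) : Nat.card G ≤ 1440 := by
  haveI : Finite (MulAut (alternatingGroup (Fin 6))) :=
    Finite.of_injective (fun σ => (σ : alternatingGroup (Fin 6) → alternatingGroup (Fin 6))) DFunLike.coe_injective
  refine (Nat.card_le_card_of_injective ((MulAut.congr e).toMonoidHom.comp
    (MulAut.conjNormal : G →* MulAut T)) ?_).trans card_mulAut_A6
  rw [injective_iff_map_eq_one]
  intro g hg
  change MulAut.congr e (MulAut.conjNormal g) = 1 at hg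
  rw [map_eq_one_iff _ (MulAut.congr e).injective] at hg
  have h1 : g ∈ Subgroup.centralizer (T : Set G) := by
    rw [Subgroup.mem_centralizer_iff]
    intro t ht
    have h2 := congrArg (fun f : MulAut T => ((f ⟨t, ht⟩ : T) : G)) hg
    simp only [MulAut.conjNormal_apply, MulAut.one_apply] at h2
    rw [mul_inv_eq_iff_eq_mul] at h2
    exact h2.symm
  rw [hT] at h1
  exact Subgroup.mem_bot.1 h1

theorem pred_dvd {G : Type*} {Ω : Type*} [Group G] [MulAction G Ω] [Finite G] [Finite Ω]
    (h2 : IsMultiplyPretransitive G Ω 2) (α : Ω) (hn : 2 ≤ Nat.card Ω) :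
    Nat.card Ω - 1 ∣ Nat.card (stabilizer G α) := by
  classical
  have : Fintype Ω := Fintype.ofFinite Ω
  have hnt : Nontrivial Ω := (Finite.one_lt_card_iff_nontrivial).1 (by omega)
  obtain ⟨β, hβ⟩ := exists_ne α
  rw [is_two_pretransitive_iff] at h2
  have h1 : orbit (stabilizer G α) β = {α}ᶜ := by
    ext γ
    rw [Set.mem_compl_iff, Set.mem_singleton_iff]
    constructor
    · rintro ⟨h, rfl⟩ hh
      apply hβ
      have h3 : (h : G) • β = (h : G) • α := by rw [show (h : G) • α = α from h.2]; exact hh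
      exact smul_left_cancel _ h3
    · intro hγ
      obtain ⟨g, hg, hg'⟩ := h2 hβ.symm (Ne.symm hγ)
      exact ⟨⟨g, hg⟩, hg'⟩
  have h3 := MulAction.index_stabilizer (stabilizer G α) β
  rw [h1, Set.ncard_compl, Set.ncard_singleton] at h3
  rw [← h3]
  exact Subgroup.index_dvd_card _

theorem six {G : Type u} {Ω : Type v} [Group G] [MulAction G Ω] {T : Subgroup G} (A : AS G Ω T)
    (e : T ≃* alternatingGroup (Fin 6)) : Known2 T (Nat.card Ω) := by
  classical
  haveI := A.finG
  haveI := A.finΩ
  haveI := A.normal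
  haveI := A.faithful
  haveI : Fintype Ω := Fintype.ofFinite Ω
  haveI : IsPretransitive G Ω := isPretransitive_of_is_two_pretransitive (h2 := A.two)
  have hpT := pret_T A.simple A.faithful A.two
  have hT : Nat.card T = 360 := by
    rw [Nat.card_congr e.toEquiv]
    have h1 : 2 * Nat.card (alternatingGroup (Fin 6)) = Nat.card (Perm (Fin 6)) := two_mul_nat_card_alternatingGroup
    rw [Nat.card_perm, Nat.card_fin] at h1
    have : Nat.factorial 6 = 720 := by decide
    omega
  have hG := card_G_six A.cent e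
  have hTG : Nat.card T ∣ Nat.card G := Subgroup.card_subgroup_dvd_card T
  have hTle : Nat.card T ≤ Nat.card G := Subgroup.card_le_card_group T
  have hfac : Nat.card G ≤ (Nat.card Ω).factorial := card_le_factorial A.faithful
  have hn6 : 6 ≤ Nat.card Ω := six_le (by omega)
  have hne : Nonempty Ω := by
    rw [← not_isEmpty_iff]
    intro h
    rw [Nat.card_of_isEmpty] at hn6
    omega
  obtain ⟨α⟩ := hne
  have hn := card_dvd_T hpT α
  have hst : Nat.card (stabilizer G α) * Nat.card Ω = Nat.card G := by
    rw [← index_stabilizer_of_transitive G α, Subgroup.card_mul_index]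
  have hd : (Nat.card Ω - 1) * Nat.card Ω ∣ Nat.card G := by
    rw [← hst]
    exact Nat.mul_dvd_mul_right (pred_dvd A.two α (by omega)) _
  rw [hT] at hn hTG hTle
  obtain ⟨k, hk⟩ := hTG
  have hk4 : k ≤ 4 := by omega
  have hk0 : 1 ≤ k := by
    rcases Nat.eq_zero_or_pos k with h | h
    · rw [h] at hk; omega
    · exact h
  have hd' : (Nat.card Ω - 1) * Nat.card Ω ∣ 1440 ∨ (Nat.card Ω - 1) * Nat.card Ω ∣ 1080 := by
    rw [hk] at hd
    interval_cases k
    · exact Or.inl (Dvd.dvd.trans hd (by norm_num))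
    · exact Or.inl (Dvd.dvd.trans hd (by norm_num))
    · exact Or.inr (Dvd.dvd.trans hd (by norm_num))
    · exact Or.inl (Dvd.dvd.trans hd (by norm_num))
  rcases num6 _ (Nat.le_of_dvd (by norm_num) hn) hn hd' hn6 with h | h | h
  · rw [h]; exact Known2.alt 6 (by norm_num) ⟨e⟩
  · exfalso
    let R := (toPermHom G Ω).range
    have hR : IsPreprimitive R Ω := by
      haveI : IsPreprimitive G Ω := isPreprimitive_of_is_two_pretransitive A.two
      let φ : G → R := fun g => ⟨toPermHom G Ω g, ⟨g, rfl⟩⟩
      let f : Ω →ₑ[φ] Ω := { toFun := id, map_smul' := fun g x => rfl }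
      exact IsPreprimitive.of_surjective (f := f) Function.surjective_id
    have hcR : Nat.card R = Nat.card G :=
      (Nat.card_congr (Equiv.ofInjective (toPermHom G Ω) toPerm_injective)).symm
    have hcΩ : Fintype.card Ω = 9 := by rw [← Nat.card_eq_fintype_card]; exact h
    have h5 : 5 ∣ Nat.card R := by
      rw [hcR, hk]
      exact Dvd.dvd.mul_right (by norm_num) _
    have h7 := alt_le_of_dvd (p := 5) (by norm_num) (by omega) (by omega) (by omega) R hR h5
    have h8 := Subgroup.card_le_of_le h7
    have hnt : Nontrivial Ω := Fintype.one_lt_card_iff_nontrivial.1 (by omega)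
    have h9 : 2 * Nat.card (alternatingGroup Ω) = Nat.card (Perm Ω) := two_mul_nat_card_alternatingGroup
    rw [Nat.card_perm, h] at h9
    have h10 : Nat.factorial 9 = 362880 := by decide
    rw [hcR] at h8
    omega
  · rw [h]
    haveI : Fact (Nat.Prime 3) := ⟨by norm_num⟩
    letI : Fintype (GaloisField 3 2) := Fintype.ofFinite _
    have hF : Fintype.card (GaloisField 3 2) = 9 := by
      rw [← Nat.card_eq_fintype_card, GaloisField.card 3 2 (by norm_num)]; norm_num
    obtain ⟨f⟩ := S0254.result (F := GaloisField 3 2) hF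
    refine Known2.psl (GaloisField 3 2) 2 10 le_rfl (fun _ => by rw [hF]; norm_num) ⟨e.trans f.symm⟩ ?_
    rw [hF]; norm_num

/-- **HUB H1, P10.** The 2-transitive groups with alternating socle. -/
theorem alt {G : Type u} {Ω : Type v} [Group G] [MulAction G Ω] {T : Subgroup G} (A : AS G Ω T) (m : ℕ) (hm : 5 ≤ m)
    (e : Nonempty (T ≃* alternatingGroup (Fin m))) : Known2 T (Nat.card Ω) := by
  classical
  obtain ⟨e⟩ := e
  by_cases h6 : m = 6
  · subst h6; exact six A e
  haveI := A.finG
  haveI := A.finΩ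
  haveI := A.normal
  haveI := A.faithful
  haveI : IsPretransitive G Ω := isPretransitive_of_is_two_pretransitive (h2 := A.two)
  have hG : IsPreprimitive G Ω := isPreprimitive_of_is_two_pretransitive A.two
  obtain ⟨ψ, E⟩ := exists_emb A.cent hm h6 e
  have hnt : Nontrivial Ω := by
    by_contra hcon
    rw [not_nontrivial_iff_subsingleton] at hcon
    haveI := A.simple.toNontrivial
    obtain ⟨t, ht⟩ := exists_ne (1 : T)
    exact ht (Subtype.ext (A.faithful.eq_of_smul_eq_smul (α := Ω) fun x => Subsingleton.elim _ _))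
  obtain ⟨α⟩ : Nonempty Ω := inferInstance
  have hco : IsCoatom (stabilizer G α) := (isCoatom_stabilizer_iff_preprimitive G α).2 hG
  by_cases htr : ∀ x y : Fin m, ∃ h ∈ stabilizer G α, ψ h x = y
  · by_cases hK : IsPreprimitive ((stabilizer G α).map ψ) (Fin m)
    · exact prim_case A hm h6 e E α hK
    · exfalso
      have hpre : IsPretransitive ((stabilizer G α).map ψ) (Fin m) := by
        constructor
        intro x y
        obtain ⟨h, hh, hxy⟩ := htr x y
        exact ⟨⟨ψ h, ⟨h, hh, rfl⟩⟩, hxy⟩
      obtain ⟨B, hB, hB1, hB2⟩ : ∃ B : Set (Fin m), IsBlock ((stabilizer G α).map ψ) B ∧ ¬ B.Subsingleton ∧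
          B ≠ Set.univ := by
        by_contra hcon
        push Not at hcon
        apply hK
        refine ⟨fun {B} hB => ?_⟩
        by_cases hs : B.Subsingleton
        · exact Or.inl hs
        · exact Or.inr (hcon B hB (Set.not_subsingleton_iff.1 hs))
      rw [isBlock_iff_smul_eq_of_mem] at hB
      have hB' : ∀ h ∈ stabilizer G α, ∀ a b, a ∈ B → ψ h a ∈ B → b ∈ B → ψ h b ∈ B := by
        intro h hh a b ha ha' hb
        have h1 := hB (g := ⟨ψ h, ⟨h, hh, rfl⟩⟩) ha ha'
        rw [← h1]
        exact ⟨b, hb, rfl⟩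
      obtain ⟨x, hx, x', hx', hne⟩ := Set.not_subsingleton_iff.1 hB1
      obtain ⟨y, hy⟩ := (Set.ne_univ_iff_exists_notMem B).1 hB2
      -- all the translates
      let r : Setoid (Fin m) :=
        { r := fun a b => ∀ h ∈ stabilizer G α, (ψ h a ∈ B ↔ ψ h b ∈ B)
          iseqv := ⟨fun a h _ => Iff.rfl, fun hab h hh => (hab h hh).symm,
            fun hab hbc h hh => (hab h hh).trans (hbc h hh)⟩ }
      have hr : ∀ a b, r a b ↔ ∀ h ∈ stabilizer G α, (ψ h a ∈ B ↔ ψ h b ∈ B) := fun a b => Iff.rfl
      refine imprim hm h6 E A.two α r ?_ htr ⟨x, x', hne, ?_⟩ ⟨x, y, ?_⟩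
      · intro k hk a b
        rw [hr, hr]
        constructor
        · intro hab h hh
          have := hab (h * k) (mul_mem hh hk)
          rwa [map_mul, Perm.mul_apply, Perm.mul_apply] at this
        · intro hab h hh
          have := hab (h * k⁻¹) (mul_mem hh (inv_mem hk))
          rwa [← Perm.mul_apply, ← Perm.mul_apply, ← map_mul, inv_mul_cancel_right] at this
      · rw [hr]
        intro h hh
        exact ⟨fun h1 => hB' h hh x x' hx h1 hx', fun h1 => hB' h hh x' x hx' h1 hx⟩
      · rw [hr]
        intro h1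
        have := h1 1 (one_mem _)
        rw [map_one, Perm.one_apply, Perm.one_apply] at this
        exact hy (this.1 hx)
  · push Not at htr
    obtain ⟨x, y, hxy⟩ := htr
    have h1 := intrans hm E A.two α hco {z | ∃ h ∈ stabilizer G α, ψ h x = z}
      ⟨x, 1, one_mem _, by rw [map_one, Perm.one_apply]⟩ (by
        rw [Set.ne_univ_iff_exists_notMem]
        exact ⟨y, fun ⟨h, hh, he⟩ => hxy h hh he⟩) (by
        intro k hk z
        constructor
        · rintro ⟨h, hh, rfl⟩
          exact ⟨k * h, mul_mem hk hh, by rw [map_mul, Perm.mul_apply]⟩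
        · rintro ⟨h, hh, he⟩
          refine ⟨k⁻¹ * h, mul_mem (inv_mem hk) hh, ?_⟩
          rw [map_mul, Perm.mul_apply, he, ← Perm.mul_apply, ← map_mul, inv_mul_cancel, map_one, Perm.one_apply])
    rw [h1]
    exact Known2.alt m hm ⟨e⟩

end Cfsg.Agent.H202.TwoTransAlt
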